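import Cfsg.Agent.ThreeTransposition.TwoCorePerp.Symplectic
import Cfsg.Agent.ThreeTransposition.TwoCorePerp.Unitary.Step

/-!
Fischer: if the 2-core of the group generated by the neighbours of a member is not central, the group is
symplectic over two elements or unitary over four.
-/

set_option linter.unusedSectionVars false
set_option linter.style.haveILetI false

namespace Cfsg.Lib.ThreeTr.TwoCorePerp

open Cfsg Subgroup Cfsg.Lib.ThreeTr
open Cfsg.Lib.ThreeTr.SolvablePerp (cls perp_symm self_mem_cls)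
open Cfsg.Lib.PrimeGraph (KQuad)

universe u

variable {G : Type u} [Group G] [Finite G] {D : Set G}

theorem geo_of_rich (hR : Rich D) {x : G} (hx : x ∈ D)
    (h : ¬ pCore 2 (closure (perp D x)) ≤ center (closure (perp D x))) : Geo D := by
  have hD := hR.cls
  refine ⟨hD.1, fun a _ b hb => conj_mem hD a hb, fun a ha b hb => ?_, fun y hy a ha b hb => ?_,
    fun a ha b hb hv => eq_of_vRel_of_primitive hR.prim hD ha hb hv, ?_⟩
  · obtain ⟨g, hg⟩ := exists_conj hD ha hb
    exact ⟨g, hD.2.2 ▸ mem_top g, hg⟩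
  · exact hR.perp_transitive hy ha hb
  have hE := CoreThree.perp_class hR hx
  obtain ⟨a, ha⟩ := hR.exists_perp hx
  set H := closure (perp D x)
  haveI := (Cfsg.Lib.Components.pCore_normal_and_isPGroup (G := H) 2).1
  obtain ⟨g, hg, hne⟩ := exists_moved hE h (d := ⟨a, subset_closure ha⟩) ha
  have hb := conj_mem hE g (x := ⟨a, subset_closure ha⟩) ha
  refine ⟨x, hx, a, ha, _, ⟨hb, fun e he => ?_⟩, fun e => hne (Subtype.ext e)⟩
  exact ((SolvablePerp.perpIn_vRel.1
    (vRel_of_mem_pCore hE (d := ⟨a, subset_closure ha⟩) ha hb (moved_diff_mem hg))) e he).symm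

/-- Fischer's groups with a noncentral 2-core among the neighbours. -/
theorem main (hsol : ∀ N : Subgroup G, N.Normal → Group.IsSolvable N → N = ⊥)
    (hperf : ⁅commutator G, commutator G⁆ = commutator G) (hD : IsThreeTranspositionClass D) {x : G} (hx : x ∈ D)
    (h : ¬ pCore 2 (closure (perp D x)) ≤ center (closure (perp D x))) :
    (∃ n : ℕ, Nonempty (G ≃* Matrix.symplecticGroup (Fin n) (ZMod 2))) ∨
      ∃ (F : Type) (_ : Field F) (_ : Fintype F) (n : ℕ),
        Fintype.card F = 4 ∧ Nonempty (G ≃* Cfsg.PSU n F 2) := by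
  obtain ⟨-, -, hR⟩ := rich_of_fischer hsol hperf hD
  have P := geo_of_rich hR hx h
  have hZ : center G = ⊥ :=
    hsol _ inferInstance (Group.isSolvable_of_comm fun a b => Subtype.ext (mem_center_iff.1 b.2 a))
  have hcent : ∀ g : G, (∀ d ∈ D, Commute g d) → g = 1 := fun g hg => by
    have hle : closure D ≤ centralizer {g} := (closure_le _).2 fun d hd =>
      mem_centralizer_singleton_iff.2 (hg d hd).symm.eq
    have : g ∈ center G := mem_center_iff.2 fun k => mem_centralizer_singleton_iff.1 (hle (hD.2.2 ▸ mem_top k))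
    rw [hZ] at this
    exact mem_bot.1 this
  obtain ⟨a, ha⟩ := P.exists_perp hx
  rcases P.two_or_four hx ha with h2 | h4
  · exact Or.inl (Three.equiv_sp ⟨P, fun y hy b hb => (P.ncard_cls hx ha hy hb).trans h2⟩ hD.2.2 hcent)
  · have U : Unitary.Uni D := ⟨P, fun y hy b hb => (P.ncard_cls hx ha hy hb).trans h4, hD.2.2, hcent⟩
    obtain ⟨n, f, C⟩ := Unitary.exists_coords U
    exact Or.inr ⟨KQuad, inferInstance, inferInstance, n, KQuad.card_eq, C.equiv_psu P hD.2.2 hcent⟩

end Cfsg.Lib.ThreeTr.TwoCorePerp
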