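import Cfsg.Agent.ThreeTransposition.TwoCorePerp.Geo

/-!
Three pairwise commuting members and a member commuting with none of them determine a fourth one.
-/

set_option linter.unusedSectionVars false
set_option linter.style.haveILetI false

namespace Cfsg.Lib.ThreeTr.TwoCorePerp

open Cfsg Subgroup Cfsg.Lib.ThreeTr

universe u

variable {G : Type u} [Group G] {S : Set G}

/-- The fourth point of three pairwise commuting members and a member commuting with none of them. -/
def four' (p q u z : G) : G := z * ((p * q * u) * z * (p * q * u)⁻¹) * z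

namespace Geo

theorem commute_four' (P : Geo S) {a b e z : G} (ha : a ∈ S) (hb : b ∈ S) (he : e ∈ S) (hz : z ∈ S)
    (cab : Commute a b) (cbe : Commute b e) (hza : ¬ Commute z a) (hzb : ¬ Commute z b) (hze : ¬ Commute z e) :
    Commute (four' a b e z) a := by
  have b1 := braid P.tr hz ha hza
  have b2 := braid P.tr hz hb hzb
  have b3 := braid P.tr hz he hze
  have hW : four' a b e z = a * four' a b e z * a := by
    simp only [four', mul_inv_rev, inv_eq P.tr ha, inv_eq P.tr hb, inv_eq P.tr he]
    calc z * (a * b * e * z * (e * (b * a))) * z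
        = z * a * (b * (e * z * e) * b) * a * z := by simp only [mul_assoc]
      _ = z * a * (b * (z * e * z) * b) * a * z := by rw [b3]
      _ = z * a * (b * z * (b * b) * e * z * b) * a * z := by
          rw [sq_eq_one P.tr hb, mul_one]; simp only [mul_assoc]
      _ = z * a * ((b * z * b) * e * (b * z * b)) * a * z := by
          rw [show b * z * (b * b) * e * z * b = b * z * b * (b * e) * z * b by simp only [mul_assoc], cbe.eq]
          simp only [mul_assoc]
      _ = z * a * ((z * b * z) * e * (z * b * z)) * a * z := by rw [b2]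
      _ = (z * a * z) * (b * z * e * z * b) * (z * a * z) := by simp only [mul_assoc]
      _ = (a * z * a) * (b * (z * e * z) * b) * (a * z * a) := by rw [b1]; simp only [mul_assoc]
      _ = (a * z * a) * (b * (e * z * e) * b) * (a * z * a) := by rw [b3]
      _ = a * (z * (a * b * e * z * (e * (b * a))) * z) * a := by simp only [mul_assoc]
  show _ * a = a * _
  conv_lhs => rw [hW, mul_assoc, sq_eq_one P.tr ha, mul_one]

theorem four'_ne (P : Geo S) {a b e z : G} (ha : a ∈ S) (hb : b ∈ S) (he : e ∈ S) (hz : z ∈ S)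
    (hbe : b ≠ e) (cbe : Commute b e) (hza : ¬ Commute z a) (hzb : ¬ Commute z b) : four' a b e z ≠ a := by
  intro h
  have hz2 := sq_eq_one P.tr hz
  have hc : (b * e) * z * (b * e)⁻¹ = z := by
    have h1 : (a * b * e) * z * (a * b * e)⁻¹ = a * z * a := by
      conv_lhs => rw [← invol_conj_conj hz2 ((a * b * e) * z * (a * b * e)⁻¹)]
      rw [four'] at h
      rw [h, braid P.tr hz ha hza]
    have h2 := congrArg (fun t => a * t * a) h1
    simp only [mul_inv_rev, inv_eq P.tr ha] at h2 ⊢
    rw [invol_conj_conj (sq_eq_one P.tr ha)] at h2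
    refine Eq.trans ?_ h2
    simp only [← mul_assoc, sq_eq_one P.tr ha, one_mul]
    rw [mul_assoc _ a a, sq_eq_one P.tr ha, mul_one]
  exact hzb ((commute_pair_iff P.tr hb he hz hbe cbe).1 (mul_inv_eq_iff_eq_mul.1 hc).symm).1

theorem four'_mem (P : Geo S) {p q u z : G} (hp : p ∈ S) (hq : q ∈ S) (hu : u ∈ S) (hz : z ∈ S) :
    four' p q u z ∈ S := by
  refine P.invol_mem hz ?_
  exact (P.mem_iff (mul_mem (mul_mem (subset_closure hp) (subset_closure hq)) (subset_closure hu)) z).2 hz

/-- The properties of the fourth point. -/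
theorem four'_spec (P : Geo S) {p q u z : G} (hp : p ∈ S) (hq : q ∈ S) (hu : u ∈ S) (hz : z ∈ S)
    (hpq : p ≠ q) (hpu : p ≠ u) (hqu : q ≠ u) (cpq : Commute p q) (cpu : Commute p u) (cqu : Commute q u)
    (hzp : ¬ Commute z p) (hzq : ¬ Commute z q) (hzu : ¬ Commute z u) :
    Commute (four' p q u z) p ∧ Commute (four' p q u z) q ∧ Commute (four' p q u z) u ∧ four' p q u z ≠ p ∧
      four' p q u z ≠ q ∧ four' p q u z ≠ u ∧ ¬ Commute z (four' p q u z) ∧
      Commute (p * q * u * four' p q u z) z := by
  have eq1 : four' p q u z = four' q p u z := by simp only [four', cpq.eq]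
  have eq2 : four' p q u z = four' u q p z := by
    have : p * q * u = u * q * p := by
      rw [mul_assoc, cqu.eq, ← mul_assoc, cpu.eq, mul_assoc, cpq.eq, ← mul_assoc]
    simp only [four', this]
  have hwp : Commute (four' p q u z) p := P.commute_four' hp hq hu hz cpq cqu hzp hzq hzu
  have hwq : Commute (four' p q u z) q := by
    rw [eq1]; exact P.commute_four' hq hp hu hz cpq.symm cpu hzq hzp hzu
  have hwu : Commute (four' p q u z) u := by
    rw [eq2]; exact P.commute_four' hu hq hp hz cqu.symm cpq.symm hzu hzq hzp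
  set w := four' p q u z with hw
  have hwD : w ∈ S := P.four'_mem hp hq hu hz
  have hz2 := sq_eq_one P.tr hz
  have hzz : (p * q * u) * z * (p * q * u)⁻¹ = z * w * z := by
    rw [hw, four']; exact (invol_conj_conj hz2 _).symm
  have hcpw : Commute (p * q * u) w := (hwp.symm.mul_left hwq.symm).mul_left hwu.symm
  have hwz : ¬ Commute z w := by
    intro h
    have h1 : (p * q * u) * z * (p * q * u)⁻¹ = w := by rw [hzz, h.eq, mul_assoc, hz2, mul_one]
    have h3 : (p * q * u) * w * (p * q * u)⁻¹ = w := by rw [hcpw.eq, mul_inv_cancel_right]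
    exact hzp (mul_left_cancel (mul_right_cancel (h1.trans h3.symm)) ▸ hwp)
  refine ⟨hwp, hwq, hwu, P.four'_ne hp hq hu hz hqu cqu hzp hzq, ?_, ?_, hwz, ?_⟩
  · rw [eq1]; exact P.four'_ne hq hp hu hz hpu cpu hzq hzp
  · rw [eq2]; exact P.four'_ne hu hq hp hz hpq.symm cpq.symm hzu hzq
  have h1 : (p * q * u * w) * z * (p * q * u * w)⁻¹ = z := by
    rw [hcpw.eq, mul_inv_rev, inv_eq P.tr hwD]
    calc w * (p * q * u) * z * ((p * q * u)⁻¹ * w) = w * ((p * q * u) * z * (p * q * u)⁻¹) * w := by
          simp only [mul_assoc]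
      _ = w * (w * z * w) * w := by rw [hzz, braid P.tr hz hwD hwz]
      _ = z := invol_conj_conj (sq_eq_one P.tr hwD) z
  exact mul_inv_eq_iff_eq_mul.1 h1

end Geo

end Cfsg.Lib.ThreeTr.TwoCorePerp
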