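import Cfsg.Agent.ThreeTransposition.CoreThree.Main
import Cfsg.Agent.ThreeTransposition.SolvablePerp.Width

/-!
A set of 3-transpositions in which some neighbours of a member have the same commuting partners among all of its
neighbours: the classes of this equality make the lines of a polar space.
-/

set_option linter.unusedSectionVars false
set_option linter.style.haveILetI false

namespace Cfsg.Lib.ThreeTr.TwoCorePerp

open Cfsg Subgroup Cfsg.Lib.ThreeTr
open Cfsg.Lib.ThreeTr.SolvablePerp (cls perp_symm self_mem_cls)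

universe u

variable {G : Type u} [Group G] {S : Set G}

/-- A set of 3-transpositions with twins among the neighbours. -/
structure Geo (S : Set G) : Prop where
  tr : IsThreeTranspositionSet S
  closed : ∀ a ∈ S, ∀ b ∈ S, a * b * a⁻¹ ∈ S
  trans : ∀ a ∈ S, ∀ b ∈ S, ∃ g ∈ closure S, g * a * g⁻¹ = b
  edge : ∀ x ∈ S, ∀ a ∈ perp S x, ∀ b ∈ perp S x, ∃ g ∈ closure (perp S x), g * a * g⁻¹ = b
  twinfree : ∀ a ∈ S, ∀ b ∈ S, VRel S a b → a = b
  twin : ∃ x ∈ S, ∃ a ∈ perp S x, ∃ b ∈ cls S x a, b ≠ a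

theorem perp_sub {x : G} : perp S x ⊆ S := fun _ h => h.1

theorem closure_perp_le {x : G} : closure (perp S x) ≤ closure S := closure_mono perp_sub

namespace Geo

theorem mem_iff (P : Geo S) {g : G} (hg : g ∈ closure S) : ∀ t, g * t * g⁻¹ ∈ S ↔ t ∈ S := by
  induction hg using closure_induction with
  | mem u hu =>
    refine fun t => ⟨fun h => ?_, P.closed u hu t⟩
    have := P.closed u hu _ h
    rwa [inv_eq P.tr hu, invol_conj_conj (sq_eq_one P.tr hu)] at this
  | one => intro t; simp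
  | mul g k _ _ hg hk => intro t; rw [show g * k * t * (g * k)⁻¹ = g * (k * t * k⁻¹) * g⁻¹ by group, hg, hk]
  | inv g _ hg => intro t; rw [← hg, show g * (g⁻¹ * t * g⁻¹⁻¹) * g⁻¹ = t by group]

theorem invol_mem (P : Geo S) {a b : G} (ha : a ∈ S) (hb : b ∈ S) : a * b * a ∈ S := by
  have := P.closed a ha b hb
  rwa [inv_eq P.tr ha] at this

theorem mem_perp_conj (P : Geo S) {g : G} (hg : g ∈ closure S) {x y : G} :
    g * y * g⁻¹ ∈ perp S (g * x * g⁻¹) ↔ y ∈ perp S x := by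
  show _ ∧ _ ∧ _ ↔ _ ∧ _ ∧ _
  rw [P.mem_iff hg, conj_commute_iff]
  simp

theorem perp_image (P : Geo S) {g : G} (hg : g ∈ closure S) (x : G) :
    (fun y => g * y * g⁻¹) '' perp S x = perp S (g * x * g⁻¹) := by
  ext y
  constructor
  · rintro ⟨z, hz, rfl⟩; exact (P.mem_perp_conj hg).2 hz
  · intro hy
    refine ⟨g⁻¹ * y * g, (P.mem_perp_conj hg).1 ?_, by group⟩
    rwa [show g * (g⁻¹ * y * g) * g⁻¹ = y by group]

theorem ncard_perp (P : Geo S) {a b : G} (ha : a ∈ S) (hb : b ∈ S) : (perp S a).ncard = (perp S b).ncard := by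
  obtain ⟨g, hg, rfl⟩ := P.trans a ha b hb
  rw [← P.perp_image hg, Set.ncard_image_of_injective _ (conj_image_injective g)]

theorem conj_edge (P : Geo S) {x a y b : G} (hx : x ∈ S) (ha : a ∈ perp S x) (hy : y ∈ S) (hb : b ∈ perp S y) :
    ∃ g ∈ closure S, g * x * g⁻¹ = y ∧ g * a * g⁻¹ = b := by
  obtain ⟨g, hg, rfl⟩ := P.trans x hx y hy
  obtain ⟨h, hh, hhb⟩ := P.edge _ hy _ ((P.mem_perp_conj hg).2 ha) b hb
  refine ⟨h * g, mul_mem (closure_perp_le hh) hg, ?_, ?_⟩
  · rw [show h * g * x * (h * g)⁻¹ = h * (g * x * g⁻¹) * h⁻¹ by group, CoreThree.conj_fix (closure_perp_commute hh)]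
  · rw [show h * g * a * (h * g)⁻¹ = h * (g * a * g⁻¹) * h⁻¹ by group, hhb]

theorem ncard_common (P : Geo S) {x a y b : G} (hx : x ∈ S) (ha : a ∈ perp S x) (hy : y ∈ S) (hb : b ∈ perp S y) :
    (perp S y ∩ perp S b).ncard = (perp S x ∩ perp S a).ncard := by
  obtain ⟨g, hg, rfl, rfl⟩ := P.conj_edge hx ha hy hb
  rw [← P.perp_image hg x, ← P.perp_image hg a, ← Set.image_inter (conj_image_injective g),
    Set.ncard_image_of_injective _ (conj_image_injective g)]

theorem cls_image (P : Geo S) {g : G} (hg : g ∈ closure S) (x a : G) :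
    (fun y => g * y * g⁻¹) '' cls S x a = cls S (g * x * g⁻¹) (g * a * g⁻¹) := by
  ext y
  constructor
  · rintro ⟨z, hz, rfl⟩
    refine ⟨(P.mem_perp_conj hg).2 hz.1, fun e he => ?_⟩
    rw [← P.perp_image hg x] at he
    obtain ⟨w, hw, rfl⟩ := he
    rw [conj_commute_iff, conj_commute_iff]
    exact hz.2 w hw
  · intro hy
    refine ⟨g⁻¹ * y * g, ⟨(P.mem_perp_conj hg).1 ?_, fun e he => ?_⟩, by group⟩
    · rw [show g * (g⁻¹ * y * g) * g⁻¹ = y by group]; exact hy.1
    · have := hy.2 _ ((P.mem_perp_conj hg).2 he)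
      rw [conj_commute_iff] at this
      rwa [show y = g * (g⁻¹ * y * g) * g⁻¹ by group, conj_commute_iff] at this

theorem ncard_cls (P : Geo S) {x a y b : G} (hx : x ∈ S) (ha : a ∈ perp S x) (hy : y ∈ S) (hb : b ∈ perp S y) :
    (cls S y b).ncard = (cls S x a).ncard := by
  obtain ⟨g, hg, rfl, rfl⟩ := P.conj_edge hx ha hy hb
  rw [← P.cls_image hg, Set.ncard_image_of_injective _ (conj_image_injective g)]

theorem exists_perp (P : Geo S) {x : G} (hx : x ∈ S) : ∃ a, a ∈ perp S x := by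
  obtain ⟨x₀, hx₀, a₀, ha₀, -⟩ := P.twin
  obtain ⟨g, hg, rfl⟩ := P.trans x₀ hx₀ x hx
  exact ⟨_, (P.mem_perp_conj hg).2 ha₀⟩

variable [Finite G]

theorem exists_sep (P : Geo S) {x a : G} (hx : x ∈ S) (ha : a ∈ perp S x) :
    ∃ z ∈ S, Commute a z ∧ ¬ Commute x z := by
  by_contra hcon
  push Not at hcon
  have hxa := perp_symm hx ha
  have hsub : perp S a \ {x} ⊆ perp S x \ {a} := by
    rintro y ⟨⟨hy, hya, hay⟩, hyx⟩
    exact ⟨⟨hy, hyx, hcon y hy hay⟩, hya⟩
  have heq : perp S a \ {x} = perp S x \ {a} := Set.eq_of_subset_of_ncard_le hsub (by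
    rw [Set.ncard_sdiff_singleton_of_mem hxa, Set.ncard_sdiff_singleton_of_mem ha, P.ncard_perp hx ha.1])
    (Set.toFinite _)
  refine ha.2.1 (P.twinfree x hx a ha.1 fun e he => ?_).symm
  by_cases hex : e = x
  · subst hex; exact iff_of_true (Commute.refl _) hxa.2.2
  by_cases hea : e = a
  · subst hea; exact iff_of_true ha.2.2 (Commute.refl _)
  refine ⟨fun h => ?_, hcon e he⟩
  have : e ∈ perp S x \ {a} := ⟨⟨he, hex, h⟩, hea⟩
  rw [← heq] at this
  exact this.1.2.2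

/-- Two equivalent neighbours of `x` make the third one and `x` equivalent. -/
theorem cls_symm (P : Geo S) {x a b : G} (hx : x ∈ S) (ha : a ∈ perp S x) (hb : b ∈ cls S x a) (hne : b ≠ a) :
    b ∈ cls S a x := by
  obtain ⟨hbx, hV⟩ := hb
  have hab : Commute a b := (hV b hbx).2 (Commute.refl b)
  have hba : b ∈ perp S a := ⟨hbx.1, hne, hab⟩
  set C := perp S x ∩ perp S a with hC
  have hsub : insert x (C \ {b}) ⊆ perp S a ∩ perp S b := by
    rintro e (rfl | ⟨⟨hex, hea⟩, heb⟩)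
    · exact ⟨perp_symm hx ha, perp_symm hx hbx⟩
    · exact ⟨hea, ⟨hex.1, heb, (hV e hex).1 hea.2.2⟩⟩
  have heq : insert x (C \ {b}) = perp S a ∩ perp S b := by
    refine Set.eq_of_subset_of_ncard_le hsub ?_ (Set.toFinite _)
    have hbC : b ∈ C := ⟨hbx, hba⟩
    have hpos : 0 < C.ncard := (Set.ncard_pos (Set.toFinite C)).2 ⟨b, hbC⟩
    rw [Set.ncard_insert_of_notMem (fun h => h.1.1.2.1 rfl) (Set.toFinite _), Set.ncard_sdiff_singleton_of_mem hbC,
      P.ncard_common hx ha ha.1 hba, ← hC]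
    omega
  refine ⟨hba, fun e he => ?_⟩
  by_cases hex : e = x
  · subst hex; exact iff_of_true (Commute.refl _) hbx.2.2.symm
  by_cases heb : e = b
  · subst heb; exact iff_of_true hbx.2.2 (Commute.refl _)
  constructor
  · exact fun h => (hV e ⟨he.1, hex, h⟩).1 he.2.2
  · intro h
    have hm : e ∈ perp S a ∩ perp S b := ⟨he, he.1, heb, h⟩
    rw [← heq] at hm
    rcases hm with rfl | ⟨⟨h', -⟩, -⟩
    exacts [Commute.refl _, h'.2.2]

theorem perp_class (P : Geo S) {x : G} (hx : x ∈ S) : IsThreeTranspositionClass (CoreThree.perpIn S x) := by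
  obtain ⟨a, ha⟩ := P.exists_perp hx
  refine ⟨⟨fun h hh => ?_, fun h hh k hk => ?_⟩, ⟨⟨a, subset_closure ha⟩, ha, ?_⟩, closure_closure_coe_preimage⟩
  · rw [← orderOf_coe]; exact P.tr.1 _ hh.1
  · rcases P.tr.2 _ hh.1 _ hk.1 with h2 | h3
    · exact Or.inl (Subtype.ext h2)
    · exact Or.inr (Subtype.ext h3)
  · ext h
    rw [mem_conjugatesOf', isConj_iff]
    constructor
    · intro hh
      obtain ⟨g, hg, hga⟩ := P.edge x hx a ha h hh
      exact ⟨⟨g, hg⟩, Subtype.ext hga⟩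
    · rintro ⟨g, rfl⟩
      have := (P.mem_perp_conj (closure_perp_le g.2) (x := x) (y := a)).2 ha
      rwa [CoreThree.conj_fix (closure_perp_commute g.2)] at this

/-- The class sizes are powers of two. -/
theorem ncard_cls_two_pow (P : Geo S) {x a : G} (hx : x ∈ S) (ha : a ∈ perp S x) :
    ∃ i, (cls S x a).ncard = 2 ^ i := by
  haveI : Fact (Nat.Prime 2) := ⟨Nat.prime_two⟩
  have hE := P.perp_class hx
  set H := closure (perp S x) with hH
  set E := CoreThree.perpIn S x with hEdef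
  have hE2 : ∃ p ∈ E, ∃ q ∈ E, p ≠ q := by
    obtain ⟨x₀, hx₀, a₀, ha₀, b₀, hb₀, hne⟩ := P.twin
    obtain ⟨g, hg, rfl⟩ := P.trans x₀ hx₀ x hx
    exact ⟨⟨g * a₀ * g⁻¹, subset_closure ((P.mem_perp_conj hg).2 ha₀)⟩, (P.mem_perp_conj hg).2 ha₀,
      ⟨g * b₀ * g⁻¹, subset_closure ((P.mem_perp_conj hg).2 hb₀.1)⟩, (P.mem_perp_conj hg).2 hb₀.1,
      fun e => hne (mul_left_cancel (mul_right_cancel (congrArg Subtype.val e))).symm⟩
  set Q : Subgroup (ConjAct G) := ((pCore 2 H).map H.subtype).map ConjAct.toConjAct.toMonoidHom with hQ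
  have hP : IsPGroup 2 Q := ((Cfsg.Lib.Components.isPGroup_pCore (G := H) 2).map _).map _
  have horb : MulAction.orbit Q a = cls S x a := by
    ext b
    constructor
    · rintro ⟨⟨_, _, ⟨g, hg, rfl⟩, rfl⟩, rfl⟩
      haveI := (Cfsg.Lib.Components.pCore_normal_and_isPGroup (G := H) 2).1
      have hb : g * ⟨a, subset_closure ha⟩ * g⁻¹ ∈ E := conj_mem hE g (x := ⟨a, subset_closure ha⟩) ha
      exact ⟨hb, fun e he => ((SolvablePerp.perpIn_vRel.1
        (vRel_of_mem_pCore hE (d := ⟨a, subset_closure ha⟩) ha hb (moved_diff_mem hg))) e he).symm⟩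
    · rintro ⟨hb, hV⟩
      obtain ⟨g, hg, hgd⟩ := vRel_exists_conj hE hE2 (d := ⟨a, subset_closure ha⟩) ha
        (v := ⟨b, subset_closure hb⟩) hb (SolvablePerp.perpIn_vRel.2 fun e he => (hV e he).symm)
      exact ⟨⟨_, _, ⟨g, hg, rfl⟩, rfl⟩, congrArg Subtype.val hgd⟩
  haveI : Finite (MulAction.orbit Q a) := Set.toFinite _
  obtain ⟨n, hn⟩ := hP.card_orbit (α := G) a
  exact ⟨n, by rw [← horb, ← Nat.card_coe_set_eq]; exact hn⟩

end Geo

end Cfsg.Lib.ThreeTr.TwoCorePerp
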