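import Cfsg.Agent.ThreeTransposition.TwoCorePerp.Lines

/-!
The common neighbours of two noncommuting members meet each class of neighbours of either exactly once.
-/

set_option linter.unusedSectionVars false
set_option linter.style.haveILetI false

namespace Cfsg.Lib.ThreeTr.TwoCorePerp

open Cfsg Subgroup Cfsg.Lib.ThreeTr
open Cfsg.Lib.ThreeTr.SolvablePerp (cls perp_symm self_mem_cls)

universe u

variable {G : Type u} [Group G] {S : Set G}

theorem mem_cls_symm {x a b : G} (hb : b ∈ cls S x a) (ha : a ∈ perp S x) : a ∈ cls S x b :=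
  ⟨ha, fun e he => (hb.2 e he).symm⟩

theorem mem_inter_symm {x y z : G} (h : y ∈ perp S x ∩ perp S z) : y ∈ perp S z ∩ perp S x := ⟨h.2, h.1⟩

namespace Geo

variable [Finite G]

/-- Conjugation by a product of two equivalent neighbours fixes the classes. -/
theorem fix_cls (P : Geo S) {x a b e : G} (hx : x ∈ S) (ha : a ∈ perp S x) (hb : b ∈ cls S x a) (he : e ∈ perp S x) :
    (a * b) * e * (a * b)⁻¹ ∈ cls S x e := by
  have hE := P.perp_class hx
  set H := closure (perp S x) with hH
  have hab : VRel (CoreThree.perpIn S x) ⟨a, subset_closure ha⟩ ⟨b, subset_closure hb.1⟩ :=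
    SolvablePerp.perpIn_vRel.2 hb.2
  have h := (vRel_isClassRel hE).fixes_conj hE (u := ⟨a, subset_closure ha⟩) (v := ⟨b, subset_closure hb.1⟩)
    (e := ⟨e, subset_closure he⟩) ha hb.1 he hab
  have hm : (a * b) * e * (a * b)⁻¹ ∈ perp S x := by
    have hg : a * b ∈ closure (perp S x) := mul_mem (subset_closure ha) (subset_closure hb.1)
    have := (P.mem_perp_conj (closure_perp_le hg) (x := x) (y := e)).2 he
    rwa [CoreThree.conj_fix (closure_perp_commute hg)] at this
  exact ⟨hm, fun w hw => ((SolvablePerp.perpIn_vRel.1 h) w hw).symm⟩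

/-- Each class at `x` has exactly one common neighbour of a noncommuting pair `x`, `z`. -/
theorem existsUnique_inter (P : Geo S) {x z a : G} (hx : x ∈ S) (hz : z ∈ S) (h : ¬ Commute x z)
    (ha : a ∈ perp S x) : ∃! t, t ∈ perp S x ∩ perp S z ∧ t ∈ cls S x a := by
  have hL := isLine_line hx ha
  have hzx : ¬ Commute z x := fun c => h c.symm
  obtain ⟨t, ht, hzt⟩ := P.exists_commute hL hz
  have htx : t ≠ x := fun e => hzx (e ▸ hzt)
  have htc : t ∈ cls S x a := ht.resolve_left htx
  refine ⟨t, ⟨⟨htc.1, htc.1.1, fun e => P.ne_of_line hL mem_line_left hzx (e ▸ ht), hzt⟩, htc⟩, fun s hs => ?_⟩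
  exact P.unique_of_not_all hL hz mem_line_left hzx (Or.inr hs.2) ht hs.1.2.2.2 hzt

theorem eq_of_cls (P : Geo S) {x z s t : G} (hx : x ∈ S) (hz : z ∈ S) (h : ¬ Commute x z)
    (hs : s ∈ perp S x ∩ perp S z) (ht : t ∈ perp S x ∩ perp S z) (hc : s ∈ cls S x t) : s = t :=
  (P.existsUnique_inter hx hz h ht.1).unique ⟨hs, hc⟩ ⟨ht, self_mem_cls ht.1⟩

theorem ncard_perp_inter (P : Geo S) {x z a : G} (hx : x ∈ S) (hz : z ∈ S) (h : ¬ Commute x z)
    (ha : a ∈ perp S x) : (perp S x).ncard = (cls S x a).ncard * (perp S x ∩ perp S z).ncard := by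
  classical
  haveI := Fintype.ofFinite G
  set f : G → G := fun b => if hb : b ∈ perp S x then (P.existsUnique_inter hx hz h hb).choose else 1 with hf
  have hfs : ∀ b (hb : b ∈ perp S x), f b ∈ perp S x ∩ perp S z ∧ f b ∈ cls S x b := fun b hb => by
    rw [hf]; simp only [dif_pos hb]
    exact (P.existsUnique_inter hx hz h hb).choose_spec.1
  have key := Finset.card_eq_sum_card_fiberwise (s := (perp S x).toFinset) (t := (perp S x ∩ perp S z).toFinset)
    (f := f) fun b hb => Set.mem_toFinset.2 (hfs b (Set.mem_toFinset.1 hb)).1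
  have hfib : ∀ t ∈ (perp S x ∩ perp S z).toFinset,
      ((perp S x).toFinset.filter fun b => f b = t).card = (cls S x a).ncard := by
    intro t ht
    have ht := Set.mem_toFinset.1 ht
    rw [← P.ncard_cls hx ha hx ht.1, Set.ncard_eq_toFinset_card']
    congr 1
    ext b
    simp only [Finset.mem_filter, Set.mem_toFinset]
    constructor
    · rintro ⟨hb, rfl⟩
      exact mem_cls_symm (hfs b hb).2 hb
    · intro hb
      refine ⟨hb.1, (P.existsUnique_inter hx hz h hb.1).unique (hfs b hb.1) ⟨ht, mem_cls_symm hb ht.1⟩⟩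
  rw [Finset.sum_congr rfl hfib, Finset.sum_const, smul_eq_mul] at key
  rw [Set.ncard_eq_toFinset_card', key, ← Set.ncard_eq_toFinset_card', mul_comm]

/-- Noncommuting pairs have equally many common neighbours. -/
theorem ncard_inter (P : Geo S) {x z y w : G} (hx : x ∈ S) (hz : z ∈ S) (hxz : ¬ Commute x z) (hy : y ∈ S)
    (hw : w ∈ S) (hyw : ¬ Commute y w) : (perp S x ∩ perp S z).ncard = (perp S y ∩ perp S w).ncard := by
  obtain ⟨a, ha⟩ := P.exists_perp hx
  obtain ⟨b, hb⟩ := P.exists_perp hy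
  have h1 := P.ncard_perp_inter hx hz hxz ha
  have h2 := P.ncard_perp_inter hy hw hyw hb
  rw [P.ncard_perp hx hy, h2, P.ncard_cls hx ha hy hb] at h1
  refine (Nat.eq_of_mul_eq_mul_left ?_ h1).symm
  have := (P.even_cls hx ha).1
  omega

/-- A common neighbour has a noncommuting one. -/
theorem exists_noncommute_inter (P : Geo S) {x z t : G} (hx : x ∈ S) (hz : z ∈ S) (h : ¬ Commute x z)
    (ht : t ∈ perp S x ∩ perp S z) : ∃ s ∈ perp S x ∩ perp S z, ¬ Commute t s := by
  have hxt := perp_symm hx ht.1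
  obtain ⟨e, he, hxe, hte⟩ := P.exists_sep ht.1.1 hxt
  have hex : e ∈ perp S x := ⟨he, fun e' => hte (e' ▸ ht.1.2.2.symm), hxe⟩
  obtain ⟨s, ⟨hs, hsc⟩, -⟩ := P.existsUnique_inter hx hz h hex
  exact ⟨s, hs, fun c => hte ((hsc.2 t ht.1).2 c.symm).symm⟩

end Geo

end Cfsg.Lib.ThreeTr.TwoCorePerp
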