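import Cfsg.Agent.ThreeTransposition.TwoCorePerp.Fourth

/-!
The lines of a polar space of 3-transpositions: a member commutes with one or all of the members of a line,
and a line has three or five members.
-/

set_option linter.unusedSectionVars false
set_option linter.style.haveILetI false

namespace Cfsg.Lib.ThreeTr.TwoCorePerp

open Cfsg Subgroup Cfsg.Lib.ThreeTr
open Cfsg.Lib.ThreeTr.SolvablePerp (cls perp_symm self_mem_cls)

universe u

variable {G : Type u} [Group G] {S : Set G}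

/-- The line of an edge. -/
def line (S : Set G) (x a : G) : Set G := insert x (cls S x a)

theorem mem_line_left {x a : G} : x ∈ line S x a := Set.mem_insert _ _

theorem mem_line_right {x a : G} (ha : a ∈ perp S x) : a ∈ line S x a := Set.mem_insert_of_mem _ (self_mem_cls ha)

/-- The lines. -/
def IsLine (S : Set G) (L : Set G) : Prop := ∃ x ∈ S, ∃ a ∈ perp S x, L = line S x a

/-- The members which commute with all of a set. -/
def Cmt (S : Set G) (L : Set G) : Set G := {e | e ∈ S ∧ ∀ u ∈ L, Commute e u}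

theorem isLine_line {x a : G} (hx : x ∈ S) (ha : a ∈ perp S x) : IsLine S (line S x a) := ⟨x, hx, a, ha, rfl⟩

theorem cls_comm {x a b b' : G} (h : b ∈ cls S x a) (h' : b' ∈ cls S x a) : Commute b b' :=
  (h.2 b' h'.1).1 ((h'.2 b' h'.1).2 (Commute.refl _))

theorem cls_eq_cls {x a b : G} (hb : b ∈ cls S x a) : cls S x b = cls S x a := by
  ext c
  exact ⟨fun h => ⟨h.1, fun e he => (hb.2 e he).trans (h.2 e he)⟩,
    fun h => ⟨h.1, fun e he => (hb.2 e he).symm.trans (h.2 e he)⟩⟩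

namespace Geo

variable [Finite G]

theorem line_swap (P : Geo S) {x a : G} (hx : x ∈ S) (ha : a ∈ perp S x) : line S a x = line S x a := by
  have hxa := perp_symm hx ha
  have hsub : line S x a ⊆ line S a x := by
    rintro e (rfl | he)
    · exact mem_line_right hxa
    · by_cases h : e = a
      · exact h ▸ mem_line_left
      · exact Or.inr (P.cls_symm hx ha he h)
  refine (Set.eq_of_subset_of_ncard_le hsub ?_ (Set.toFinite _)).symm
  rw [line, line, Set.ncard_insert_of_notMem (fun h => h.1.2.1 rfl) (Set.toFinite _),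
    Set.ncard_insert_of_notMem (fun h => h.1.2.1 rfl) (Set.toFinite _), P.ncard_cls hx ha ha.1 hxa]

theorem line_eq (P : Geo S) {x a p q : G} (hx : x ∈ S) (ha : a ∈ perp S x) (hp : p ∈ line S x a)
    (hq : q ∈ line S x a) (hne : q ≠ p) : q ∈ perp S p ∧ line S p q = line S x a := by
  have base : ∀ b ∈ cls S x a, b ∈ perp S x ∧ line S x b = line S x a := fun b hb =>
    ⟨hb.1, by rw [line, line, cls_eq_cls hb]⟩
  rcases hp with rfl | hp
  · rcases hq with rfl | hq
    exacts [absurd rfl hne, base q hq]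
  obtain ⟨hpx, hline⟩ := base p hp
  have hxp := perp_symm hx hpx
  have e : line S p x = line S x a := (P.line_swap hx hpx).trans hline
  have hq' : q ∈ line S p x := e.symm ▸ hq
  rcases hq' with h | hq'
  · exact absurd h hne
  exact ⟨hq'.1, by rw [← e, line, line, cls_eq_cls hq']⟩

theorem two_all (P : Geo S) {L : Set G} (hL : IsLine S L) {z p q : G} (hz : z ∈ S) (hp : p ∈ L) (hq : q ∈ L)
    (hne : q ≠ p) (hzp : Commute z p) (hzq : Commute z q) : ∀ u ∈ L, Commute z u := by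
  obtain ⟨x, hx, a, ha, rfl⟩ := hL
  obtain ⟨hpq, e⟩ := P.line_eq hx ha hp hq hne
  intro u hu
  rw [← e] at hu
  rcases hu with rfl | hu
  · exact hzp
  by_cases hzp' : z = p
  · subst hzp'; exact hu.1.2.2
  exact ((hu.2 z ⟨hz, hzp', hzp.symm⟩).1 hzq.symm).symm

theorem line_sub (P : Geo S) {L : Set G} (hL : IsLine S L) : L ⊆ S := by
  obtain ⟨x, hx, a, -, rfl⟩ := hL
  rintro e (rfl | he)
  exacts [hx, he.1.1]

theorem line_comm (P : Geo S) {L : Set G} (hL : IsLine S L) {p q : G} (hp : p ∈ L) (hq : q ∈ L) :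
    Commute p q := by
  obtain ⟨x, hx, a, ha, rfl⟩ := hL
  by_cases h : q = p
  · exact h ▸ Commute.refl _
  · exact (P.line_eq hx ha hp hq h).1.2.2

theorem line_perp (P : Geo S) {L : Set G} (hL : IsLine S L) {p q : G} (hp : p ∈ L) (hq : q ∈ L) (hne : q ≠ p) :
    q ∈ perp S p := ⟨P.line_sub hL hq, hne, P.line_comm hL hp hq⟩

theorem line_eq' (P : Geo S) {L : Set G} (hL : IsLine S L) {p q : G} (hp : p ∈ L) (hq : q ∈ L) (hne : q ≠ p) :
    line S p q = L := by
  obtain ⟨x, hx, a, ha, rfl⟩ := hL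
  exact (P.line_eq hx ha hp hq hne).2

theorem cmt_eq (P : Geo S) {L : Set G} (hL : IsLine S L) {p q : G} (hp : p ∈ L) (hq : q ∈ L) (hne : q ≠ p) :
    Cmt S L = {e | e ∈ S ∧ Commute e p ∧ Commute e q} := by
  ext e
  exact ⟨fun h => ⟨h.1, h.2 p hp, h.2 q hq⟩, fun h => ⟨h.1, P.two_all hL h.1 hp hq hne h.2.1 h.2.2⟩⟩

theorem ncard_pair (P : Geo S) {p q p' q' : G} (hp : p ∈ S) (hq : q ∈ perp S p) (hp' : p' ∈ S)
    (hq' : q' ∈ perp S p') :
    {e | e ∈ S ∧ Commute e p ∧ Commute e q}.ncard = {e | e ∈ S ∧ Commute e p' ∧ Commute e q'}.ncard := by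
  obtain ⟨g, hg, rfl, rfl⟩ := P.conj_edge hp hq hp' hq'
  rw [← Set.ncard_image_of_injective _ (conj_image_injective g)]
  congr 1
  ext e
  constructor
  · rintro ⟨d, ⟨hd, h1, h2⟩, rfl⟩
    exact ⟨(P.mem_iff hg d).2 hd, (conj_commute_iff g d p).2 h1, (conj_commute_iff g d q).2 h2⟩
  · rintro ⟨he, h1, h2⟩
    rw [show e = g * (g⁻¹ * e * g) * g⁻¹ by group] at he h1 h2
    exact ⟨_, ⟨(P.mem_iff hg _).1 he, (conj_commute_iff g _ p).1 h1, (conj_commute_iff g _ q).1 h2⟩, by group⟩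

/-- The fourth point of three members of a line is on the line. -/
theorem four'_line (P : Geo S) {L : Set G} (hL : IsLine S L) {p q u z : G} (hp : p ∈ L) (hq : q ∈ L) (hu : u ∈ L)
    (hpq : p ≠ q) (hpu : p ≠ u) (hqu : q ≠ u) (hz : z ∈ S) (hzp : ¬ Commute z p) (hzq : ¬ Commute z q)
    (hzu : ¬ Commute z u) :
    four' p q u z ∈ L ∧ four' p q u z ≠ p ∧ four' p q u z ≠ q ∧ four' p q u z ≠ u ∧
      ¬ Commute z (four' p q u z) ∧ Commute (p * q * u * four' p q u z) z := by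
  have pS := P.line_sub hL hp
  have qS := P.line_sub hL hq
  have uS := P.line_sub hL hu
  have cpq := P.line_comm hL hp hq
  obtain ⟨cwp, cwq, cwu, hwp, hwq, hwu, hzw, hcomm⟩ := P.four'_spec pS qS uS hz hpq hpu hqu cpq
    (P.line_comm hL hp hu) (P.line_comm hL hq hu) hzp hzq hzu
  refine ⟨?_, hwp, hwq, hwu, hzw, hcomm⟩
  have wS : four' p q u z ∈ S := P.four'_mem pS qS uS hz
  have hz2 := sq_eq_one P.tr hz
  have bu := braid P.tr hz uS hzu
  have hcmt : ∀ e ∈ Cmt S L, Commute e (four' p q u z) := by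
    rintro e ⟨heS, hall⟩
    by_cases hze : Commute e z
    · have h1 : Commute e (p * q * u) := ((hall p hp).mul_right (hall q hq)).mul_right (hall u hu)
      exact (hze.mul_right ((h1.mul_right hze).mul_right h1.inv_right)).mul_right hze
    have hze' : ¬ Commute z e := fun h => hze h.symm
    by_cases hep : e = p
    · exact hep ▸ cwp.symm
    by_cases heq : e = q
    · exact heq ▸ cwq.symm
    obtain ⟨cθp, cθq, -⟩ := P.four'_spec pS qS heS hz hpq (Ne.symm hep) (Ne.symm heq) cpq (hall p hp).symm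
      (hall q hq).symm hzp hzq hze'
    have hθu := P.two_all hL (P.four'_mem pS qS heS hz) hp hq hpq.symm cθp cθq u hu
    set g := z * (p * q) * z with hg
    have hpq2 : (p * q) * (p * q) = 1 := by
      rw [← sq]; exact (commute_iff_sq (sq_eq_one P.tr pS) (sq_eq_one P.tr qS)).1 cpq
    have hg2 : g⁻¹ = g := inv_eq_of_mul_eq_one_right (by
      rw [hg]
      calc z * (p * q) * z * (z * (p * q) * z) = z * (p * q) * (z * z) * (p * q) * z := by simp only [mul_assoc]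
        _ = z * ((p * q) * (p * q)) * z := by rw [hz2, mul_one]; simp only [mul_assoc]
        _ = 1 := by rw [hpq2, mul_one, hz2])
    have key : ∀ t ∈ S, ¬ Commute z t → Commute (p * q) t → g * t * g⁻¹ = four' p q t z := by
      intro t ht hzt hc
      rw [hg2, hg, four']
      simp only [mul_inv_rev, inv_eq P.tr pS, inv_eq P.tr qS, inv_eq P.tr ht]
      calc z * (p * q) * z * t * (z * (p * q) * z)
          = z * ((p * q) * (z * t * z) * (p * q)) * z := by simp only [mul_assoc]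
        _ = z * ((p * q) * (t * z * t) * (q * p)) * z := by rw [braid P.tr hz ht hzt, cpq.eq]
        _ = z * (p * q * t * z * (t * (q * p))) * z := by simp only [mul_assoc]
    have e1 : g * u * g⁻¹ = four' p q u z := key u uS hzu ((P.line_comm hL hp hu).mul_left (P.line_comm hL hq hu))
    have e2 : g * e * g⁻¹ = four' p q e z := key e heS hze' ((hall p hp).symm.mul_left (hall q hq).symm)
    rw [← conj_commute_iff g] at hθu
    have e3 : g * four' p q e z * g⁻¹ = e := by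
      rw [← e2, hg2, invol_conj_conj (by nth_rewrite 1 [← hg2]; exact inv_mul_cancel g)]
    rw [e3, e1] at hθu
    exact hθu
  have hqp : q ∈ perp S p := P.line_perp hL hp hq hpq.symm
  have hwp' : four' p q u z ∈ perp S p := ⟨wS, hwp, cwp.symm⟩
  have hC : Cmt S L = {e | e ∈ S ∧ Commute e p ∧ Commute e (four' p q u z)} :=
    Set.eq_of_subset_of_ncard_le (fun e he => ⟨he.1, he.2 p hp, hcmt e he⟩)
      (by rw [P.cmt_eq hL hp hq hpq.symm, P.ncard_pair pS hqp pS hwp']) (Set.toFinite _)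
  rw [← P.line_eq' hL hp hq hpq.symm]
  refine Or.inr ⟨hwp', fun e he => ⟨fun h => ?_, fun h => ?_⟩⟩
  · have : e ∈ Cmt S L := by rw [P.cmt_eq hL hp hq hpq.symm]; exact ⟨he.1, he.2.2.symm, h.symm⟩
    exact (hcmt e this).symm
  · have : e ∈ Cmt S L := by rw [hC]; exact ⟨he.1, he.2.2.symm, h.symm⟩
    exact (this.2 q hq).symm

theorem ncard_line (P : Geo S) {L : Set G} (hL : IsLine S L) {x a : G} (hx : x ∈ S) (ha : a ∈ perp S x) :
    L.ncard = (cls S x a).ncard + 1 := by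
  obtain ⟨y, hy, b, hb, rfl⟩ := hL
  rw [line, Set.ncard_insert_of_notMem (fun h => h.1.2.1 rfl) (Set.toFinite _), P.ncard_cls hx ha hy hb]

theorem even_cls (P : Geo S) {x a : G} (hx : x ∈ S) (ha : a ∈ perp S x) :
    2 ≤ (cls S x a).ncard ∧ Even (cls S x a).ncard := by
  obtain ⟨i, hi⟩ := P.ncard_cls_two_pow hx ha
  obtain ⟨x₀, hx₀, a₀, ha₀, b₀, hb₀, hne⟩ := P.twin
  have h2 : 2 ≤ (cls S x a).ncard := by
    rw [P.ncard_cls hx₀ ha₀ hx ha]
    exact (Set.one_lt_ncard (Set.toFinite _)).2 ⟨a₀, self_mem_cls ha₀, b₀, hb₀, hne.symm⟩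
  refine ⟨h2, ?_⟩
  rw [hi] at h2 ⊢
  rcases i with _ | i
  · norm_num at h2
  · exact ⟨2 ^ i, by rw [pow_succ]; ring⟩

/-- A member commutes with some member of each line. -/
theorem exists_commute (P : Geo S) {L : Set G} (hL : IsLine S L) {z : G} (hz : z ∈ S) :
    ∃ u ∈ L, Commute z u := by
  classical
  by_contra hnone
  push Not at hnone
  obtain ⟨x, hx, a, ha, hLeq⟩ := id hL
  have hp : x ∈ L := hLeq ▸ mem_line_left
  have hq : a ∈ L := hLeq ▸ mem_line_right ha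
  have hpq : x ≠ a := ha.2.1.symm
  obtain ⟨h2, heven⟩ := P.even_cls hx ha
  haveI := Fintype.ofFinite G
  set T := (L \ {x, a}).toFinset with hT
  have hcard : T.card = (cls S x a).ncard - 1 := by
    rw [hT, ← Set.ncard_eq_toFinset_card', Set.ncard_sdiff (Set.insert_subset hp (Set.singleton_subset_iff.2 hq)),
      P.ncard_line hL hx ha, Set.ncard_pair hpq]
    omega
  have hmem : ∀ t ∈ T, t ∈ L ∧ x ≠ t ∧ a ≠ t := fun t ht => by
    simp only [hT, Set.mem_toFinset, Set.mem_sdiff, Set.mem_insert_iff, Set.mem_singleton_iff, not_or] at ht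
    exact ⟨ht.1, Ne.symm ht.2.1, Ne.symm ht.2.2⟩
  set f : G → G := fun t => four' x a t z with hf
  have hfT : ∀ t ∈ T, f t ∈ T ∧ f t ≠ t ∧ Commute (x * a * t * f t) z := by
    intro t ht
    obtain ⟨htL, hxt, hat⟩ := hmem t ht
    obtain ⟨hw, h1, h2, h3, -, h4⟩ := P.four'_line hL hp hq htL hpq hxt hat hz (hnone x hp) (hnone a hq)
      (hnone t htL)
    exact ⟨by simp only [hT, Set.mem_toFinset, Set.mem_sdiff, Set.mem_insert_iff, Set.mem_singleton_iff, not_or]
              exact ⟨hw, h1, h2⟩, h3, h4⟩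
  have hinv : ∀ t ∈ T, f (f t) = t := by
    intro t ht
    obtain ⟨hft, -, hc⟩ := hfT t ht
    obtain ⟨hfft, -, hc'⟩ := hfT _ hft
    by_contra hne
    obtain ⟨htL, -, -⟩ := hmem t ht
    obtain ⟨hsL, -, -⟩ := hmem _ hft
    obtain ⟨hrL, -, -⟩ := hmem _ hfft
    set s := f t with hs
    set r := f s with hr
    have c1 : Commute (x * a) t := (P.line_comm hL hp htL).mul_left (P.line_comm hL hq htL)
    have c2 : Commute (x * a) s := (P.line_comm hL hp hsL).mul_left (P.line_comm hL hq hsL)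
    have h22 : (x * a) * (x * a) = 1 := by
      rw [← sq]; exact (commute_iff_sq (sq_eq_one P.tr hx) (sq_eq_one P.tr ha.1)).1 (P.line_comm hL hp hq)
    have hprod : (x * a * t * s) * (x * a * s * r) = t * r := by
      calc (x * a * t * s) * (x * a * s * r) = (x * a) * (t * s) * (x * a) * s * r := by simp only [mul_assoc]
        _ = (t * s) * ((x * a) * (x * a)) * s * r := by
            rw [(c1.mul_right c2).eq]; simp only [mul_assoc]
        _ = t * r := by rw [h22, mul_one, mul_assoc t s s, sq_eq_one P.tr (P.line_sub hL hsL), mul_one]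
    have : Commute z (t * r) := hprod ▸ hc.symm.mul_right hc'.symm
    exact hnone t htL ((commute_pair_iff P.tr (P.line_sub hL htL) (P.line_sub hL hrL) hz (Ne.symm hne)
      (P.line_comm hL htL hrL)).1 this).1
  have : Even T.card := by
    have h0 : (T.card : ZMod 2) = 0 := by
      have h := Finset.sum_involution (s := T) (f := fun _ => (1 : ZMod 2)) (fun t _ => f t)
        (fun t _ => by decide) (fun t ht _ => (hfT t ht).2.1) (fun t ht => (hfT t ht).1) (fun t ht => hinv t ht)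
      simpa using h
    exact (ZMod.natCast_eq_zero_iff_even).1 h0
  rw [hcard] at this
  obtain ⟨k, hk⟩ := heven
  obtain ⟨l, hl⟩ := this
  omega

/-- One or all. -/
theorem one_or_all (P : Geo S) {L : Set G} (hL : IsLine S L) {z : G} (hz : z ∈ S) :
    (∃! u, u ∈ L ∧ Commute z u) ∨ ∀ u ∈ L, Commute z u := by
  obtain ⟨u, hu, hc⟩ := P.exists_commute hL hz
  by_cases h : ∀ v ∈ L, Commute z v → v = u
  · exact Or.inl ⟨u, ⟨hu, hc⟩, fun v hv => h v hv.1 hv.2⟩
  · push Not at h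
    obtain ⟨v, hv, hcv, hne⟩ := h
    exact Or.inr (P.two_all hL hz hu hv hne hc hcv)

theorem unique_of_not_all (P : Geo S) {L : Set G} (hL : IsLine S L) {z p u v : G} (hz : z ∈ S) (hp : p ∈ L)
    (hzp : ¬ Commute z p) (hu : u ∈ L) (hv : v ∈ L) (hzu : Commute z u) (hzv : Commute z v) : u = v :=
  by_contra fun h => hzp (P.two_all hL hz hu hv (Ne.symm h) hzu hzv p hp)

theorem ne_of_line (P : Geo S) {L : Set G} (hL : IsLine S L) {z p : G} (hp : p ∈ L) (hzp : ¬ Commute z p) :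
    z ∉ L := fun h => hzp (P.line_comm hL h hp)

theorem exists_inter (P : Geo S) {x z : G} (hx : x ∈ S) (hz : z ∈ S) (h : ¬ Commute x z) :
    (perp S x ∩ perp S z).Nonempty := by
  obtain ⟨a, ha⟩ := P.exists_perp hx
  have hL := isLine_line hx ha
  obtain ⟨u, hu, hc⟩ := P.exists_commute hL hz
  have hux : u ≠ x := fun e => h (e ▸ hc).symm
  exact ⟨u, P.line_perp hL mem_line_left hu hux, P.line_sub hL hu, fun e => P.ne_of_line hL mem_line_left
    (fun c => h c.symm) (e ▸ hu), hc⟩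

theorem le_four (P : Geo S) {x₀ a₀ : G} (hx₀ : x₀ ∈ S) (ha₀ : a₀ ∈ perp S x₀) : (cls S x₀ a₀).ncard ≤ 4 := by
  by_contra! hc
  obtain ⟨z, hz, haz, hxz⟩ := P.exists_sep hx₀ ha₀
  set L := line S x₀ a₀ with hLdef
  have hL : IsLine S L := isLine_line hx₀ ha₀
  have hx₀L : x₀ ∈ L := mem_line_left
  have hzx : ¬ Commute z x₀ := fun h => hxz h.symm
  have hnz : ∀ v ∈ L, v ≠ a₀ → ¬ Commute z v := fun v hv hne h =>
    hne (P.unique_of_not_all hL hz hx₀L hzx hv (mem_line_right ha₀) h haz.symm)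
  have hzL : z ∉ L := P.ne_of_line hL hx₀L hzx
  have hcard : (L \ {a₀}).ncard = (cls S x₀ a₀).ncard := by
    rw [Set.ncard_sdiff_singleton_of_mem (mem_line_right ha₀), P.ncard_line hL hx₀ ha₀]; omega
  obtain ⟨a₁, a₂, a₃, ⟨h₁, h₁r⟩, ⟨h₂, h₂r⟩, ⟨h₃, h₃r⟩, h12, h13, h23⟩ :=
    (Set.two_lt_ncard_iff (Set.toFinite (L \ {a₀}))).1 (by omega)
  simp only [Set.mem_singleton_iff] at h₁r h₂r h₃r
  obtain ⟨h₄, h41, h42, h43, hz4, hA⟩ :=
    P.four'_line hL h₁ h₂ h₃ h12 h13 h23 hz (hnz _ h₁ h₁r) (hnz _ h₂ h₂r) (hnz _ h₃ h₃r)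
  set a₄ := four' a₁ a₂ a₃ z
  obtain ⟨b₃, ⟨hb₃L, hb3r⟩, hb3'⟩ : ∃ b ∈ L \ {a₀}, b ∉ ({a₁, a₂, a₃, a₄} : Set G) := by
    refine Set.exists_mem_notMem_of_ncard_lt_ncard (lt_of_le_of_lt ?_ (show 4 < (L \ {a₀}).ncard by omega))
      (Set.toFinite _)
    refine (Set.ncard_insert_le _ _).trans (Nat.succ_le_succ ((Set.ncard_insert_le _ _).trans
      (Nat.succ_le_succ ((Set.ncard_insert_le _ _).trans (by rw [Set.ncard_singleton])))))
  simp only [Set.mem_insert_iff, Set.mem_singleton_iff, not_or] at hb3'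
  simp only [Set.mem_singleton_iff] at hb3r
  obtain ⟨hb31, hb32, hb33, hb34⟩ := hb3'
  obtain ⟨hb₄, hb41, hb42, hb43, hzb4, hB⟩ := P.four'_line hL h₁ h₂ hb₃L h12 (Ne.symm hb31) (Ne.symm hb32) hz
    (hnz _ h₁ h₁r) (hnz _ h₂ h₂r) (hnz _ hb₃L hb3r)
  set b₄ := four' a₁ a₂ b₃ z
  have hS : ∀ {v}, v ∈ L → v ∈ S := fun hv => P.line_sub hL hv
  have hcm : ∀ {u v}, u ∈ L → v ∈ L → Commute u v := fun hu hv => P.line_comm hL hu hv
  set s := a₁ * a₂ with hs
  have hs2 : s * s = 1 := by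
    rw [hs, ← sq]; exact (commute_iff_sq (sq_eq_one P.tr (hS h₁)) (sq_eq_one P.tr (hS h₂))).1 (hcm h₁ h₂)
  set g := a₃ * a₄ * (b₃ * b₄) with hg
  have hgz : Commute g z := by
    have h : g = (s * a₃ * a₄) * (s * b₃ * b₄) := by
      have hc1 : Commute s (a₃ * a₄) :=
        ((hcm h₁ h₃).mul_left (hcm h₂ h₃)).mul_right ((hcm h₁ h₄).mul_left (hcm h₂ h₄))
      calc a₃ * a₄ * (b₃ * b₄) = (s * s) * (a₃ * a₄) * (b₃ * b₄) := by rw [hs2, one_mul]
        _ = s * ((a₃ * a₄) * s) * (b₃ * b₄) := by rw [← hc1.eq]; simp only [mul_assoc]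
        _ = _ := by simp only [mul_assoc]
    rw [h]
    exact hA.mul_left hB
  have hb44 : b₄ ≠ a₄ := by
    intro h
    have e : g = a₃ * b₃ := by
      rw [hg, h, (hcm hb₃L h₄).eq, ← mul_assoc, mul_assoc a₃ a₄ a₄, sq_eq_one P.tr (hS h₄), mul_one]
    rw [e] at hgz
    exact hnz _ h₃ h₃r ((commute_pair_iff P.tr (hS h₃) (hS hb₃L) hz (Ne.symm hb33) (hcm h₃ hb₃L)).1 hgz.symm).1
  -- a common neighbour off the span of `L`
  obtain ⟨y, hy, hya, hyz, hyC⟩ : ∃ y ∈ S, Commute y a₁ ∧ Commute y z ∧ y ∉ Cmt S L := by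
    by_contra hall
    push Not at hall
    have hsub : {e | e ∈ S ∧ e ≠ a₁ ∧ Commute a₁ e} ⊆ {e | e ∈ S ∧ Commute e a₁ ∧ Commute e a₂} := by
      rintro e ⟨he, hne, hc⟩
      refine ⟨he, hc.symm, ?_⟩
      have hM := isLine_line (hS h₁) (show e ∈ perp S a₁ from ⟨he, hne, hc⟩)
      obtain ⟨t, ht, hzt⟩ := P.exists_commute hM hz
      have hta : t ≠ a₁ := fun h => hnz _ h₁ h₁r (h ▸ hzt)
      have htC := hall t (P.line_sub hM ht) (P.line_comm hM ht mem_line_left) hzt.symm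
      exact (P.two_all hM (hS h₂) mem_line_left ht hta (hcm h₂ h₁) (htC.2 a₂ h₂).symm e
        (mem_line_right ⟨he, hne, hc⟩)).symm
    refine h12 (P.twinfree _ (hS h₁) _ (hS h₂) fun e he => ?_)
    by_cases e1 : e = a₁
    · subst e1; exact iff_of_true (Commute.refl _) (hcm h₂ h₁)
    by_cases e2 : e = a₂
    · subst e2; exact iff_of_true (hcm h₁ h₂) (Commute.refl _)
    refine ⟨fun h => (hsub ⟨he, e1, h⟩).2.2.symm, fun h => ?_⟩
    -- the neighbours of `a₂` are as many as those of `a₁`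
    have hsub' : perp S a₁ \ {a₂} ⊆ perp S a₂ \ {a₁} := by
      rintro d ⟨hd, hd2⟩
      exact ⟨⟨hd.1, hd2, (hsub hd).2.2.symm⟩, hd.2.1⟩
    have heq : perp S a₁ \ {a₂} = perp S a₂ \ {a₁} := Set.eq_of_subset_of_ncard_le hsub' (by
      rw [Set.ncard_sdiff_singleton_of_mem (show a₂ ∈ perp S a₁ from ⟨hS h₂, h12.symm, hcm h₁ h₂⟩),
        Set.ncard_sdiff_singleton_of_mem (show a₁ ∈ perp S a₂ from ⟨hS h₁, h12, hcm h₂ h₁⟩),
        P.ncard_perp (hS h₁) (hS h₂)])
      (Set.toFinite _)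
    have : e ∈ perp S a₂ \ {a₁} := ⟨⟨he, e2, h⟩, e1⟩
    rw [← heq] at this
    exact this.1.2.2
  have hya2 : ∀ v ∈ L, v ≠ a₁ → ¬ Commute y v := fun v hv hne h =>
    hyC ⟨hy, P.two_all hL hy h₁ hv hne hya h⟩
  have hzy : y ≠ z := fun h => hnz _ h₁ h₁r (h ▸ hya)
  set K := line S z y with hKdef
  have hyp : y ∈ perp S z := ⟨hy, hzy, hyz.symm⟩
  have hK : IsLine S K := isLine_line hz hyp
  have hzK : z ∈ K := mem_line_left
  have hyK : y ∈ K := mem_line_right hyp
  have hKC : ∀ k ∈ K, k ∈ Cmt S L → False := fun k hk hkC => by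
    have hky : k ≠ y := fun e => hyC (e ▸ hkC)
    exact hnz _ h₁ h₁r (P.two_all hK (hS h₁) hyK hk hky hya.symm (hkC.2 a₁ h₁).symm z hzK).symm
  -- both blocks move `y` to the same place
  have hmove : ∀ p ∈ L, ∀ q ∈ L, p ≠ a₁ → q ≠ a₁ → p ≠ a₂ → q ≠ a₂ → p ≠ q → Commute (s * p * q) z →
      four' a₂ p q y = a₀ := by
    intro p hp q hq hp1 hq1 hp2 hq2 hpq hcz
    obtain ⟨hw, -⟩ := P.four'_line hL h₂ hp hq (Ne.symm hp2) (Ne.symm hq2) hpq hy
      (hya2 _ h₂ h12.symm) (hya2 _ hp hp1) (hya2 _ hq hq1)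
    have hconj : (a₂ * p * q) * y * (a₂ * p * q)⁻¹ = (s * p * q) * y * (s * p * q)⁻¹ := by
      have hcp : Commute a₁ ((a₂ * p * q) * y * (a₂ * p * q)⁻¹) := by
        have h1 : Commute a₁ (a₂ * p * q) := ((hcm h₁ h₂).mul_right (hcm h₁ hp)).mul_right (hcm h₁ hq)
        exact (h1.mul_right hya.symm).mul_right h1.inv_right
      rw [hs, show a₁ * a₂ * p * q * y * (a₁ * a₂ * p * q)⁻¹ = a₁ * ((a₂ * p * q) * y * (a₂ * p * q)⁻¹) * a₁⁻¹ by
        group, hcp.eq, mul_inv_cancel_right]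
    have hwz : Commute z (four' a₂ p q y) := by
      have h' : Commute z ((a₂ * p * q) * y * (a₂ * p * q)⁻¹) := by
        rw [hconj]; exact (hcz.symm.mul_right hyz.symm).mul_right hcz.symm.inv_right
      exact (hyz.symm.mul_right h').mul_right hyz.symm
    exact P.unique_of_not_all hL hz hx₀L hzx hw (mem_line_right ha₀) hwz haz.symm
  have hab := (hmove a₃ h₃ a₄ h₄ h13.symm h41 h23.symm h42 (Ne.symm h43) hA).trans
    (hmove b₃ hb₃L b₄ hb₄ hb31 hb41 hb32 hb42 (Ne.symm hb43) hB).symm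
  have hgy : Commute g y := by
    have h := mul_left_cancel (mul_right_cancel hab)
    set R := a₂ * b₃ * b₄ with hRdef
    have hR : R⁻¹ = R := by
      simp only [hRdef, mul_inv_rev, inv_eq P.tr (hS hb₄), inv_eq P.tr (hS hb₃L), inv_eq P.tr (hS h₂)]
      rw [(hcm hb₃L h₂).eq, ((hcm hb₄ h₂).mul_right (hcm hb₄ hb₃L)).eq]
    have e : g = R⁻¹ * (a₂ * a₃ * a₄) := by
      have hc1 : Commute (a₃ * a₄) (b₃ * b₄) :=
        ((hcm h₃ hb₃L).mul_left (hcm h₄ hb₃L)).mul_right ((hcm h₃ hb₄).mul_left (hcm h₄ hb₄))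
      have hc2 : Commute a₂ (b₃ * b₄) := (hcm h₂ hb₃L).mul_right (hcm h₂ hb₄)
      rw [hg, hR, hc1.eq, hRdef]
      calc b₃ * b₄ * (a₃ * a₄) = (a₂ * a₂) * (b₃ * b₄) * (a₃ * a₄) := by rw [sq_eq_one P.tr (hS h₂), one_mul]
        _ = a₂ * ((b₃ * b₄) * a₂) * (a₃ * a₄) := by rw [← hc2.eq]; simp only [mul_assoc]
        _ = _ := by simp only [mul_assoc]
    rw [e]
    refine mul_inv_eq_iff_eq_mul.1 ?_
    calc R⁻¹ * (a₂ * a₃ * a₄) * y * (R⁻¹ * (a₂ * a₃ * a₄))⁻¹
        = R⁻¹ * ((a₂ * a₃ * a₄) * y * (a₂ * a₃ * a₄)⁻¹) * R := by group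
      _ = y := by rw [h]; group
  -- the neighbour of `a₃` on `K`
  obtain ⟨h, hh, hha⟩ := P.exists_commute hK (hS h₃)
  have hga : Commute g a₃ :=
    (((Commute.refl a₃).mul_left (hcm h₄ h₃)).mul_left ((hcm hb₃L h₃).mul_left (hcm hb₄ h₃)))
  have hgcl : g ∈ closure S :=
    mul_mem (mul_mem (subset_closure (hS h₃)) (subset_closure (hS h₄)))
      (mul_mem (subset_closure (hS hb₃L)) (subset_closure (hS hb₄)))
  have hgh : g * h * g⁻¹ = h := by
    have hh' : g * h * g⁻¹ ∈ K := by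
      have himg : g * h * g⁻¹ ∈ (fun t => g * t * g⁻¹) '' K := ⟨h, hh, rfl⟩
      rw [hKdef, line, Set.image_insert_eq, P.cls_image hgcl, CoreThree.conj_fix hgz, CoreThree.conj_fix hgy] at himg
      exact himg
    refine P.unique_of_not_all hK (hS h₃) hzK (fun c => hnz _ h₃ h₃r c.symm) hh' hh ?_ hha
    have := (conj_commute_iff g a₃ h).2 hha
    rwa [CoreThree.conj_fix hga] at this
  have hg4 : Commute h (a₄ * b₃ * b₄) := by
    have e : a₄ * b₃ * b₄ = a₃ * g := by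
      rw [hg]; simp only [← mul_assoc, sq_eq_one P.tr (hS h₃), one_mul]
    rw [e]
    exact hha.symm.mul_right (mul_inv_eq_iff_eq_mul.1 hgh).symm
  obtain ⟨hh4, hhb, -⟩ := (commute_triple_iff P.tr (hS h₄) (hS hb₃L) (hS hb₄) (P.line_sub hK hh) (Ne.symm hb34)
    hb44.symm (Ne.symm hb43) (hcm h₄ hb₃L) (hcm h₄ hb₄) (hcm hb₃L hb₄)).1 hg4
  exact hKC h hh ⟨P.line_sub hK hh, P.two_all hL (P.line_sub hK hh) h₄ hb₃L hb34 hh4 hhb⟩

theorem two_or_four (P : Geo S) {x a : G} (hx : x ∈ S) (ha : a ∈ perp S x) :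
    (cls S x a).ncard = 2 ∨ (cls S x a).ncard = 4 := by
  obtain ⟨i, hi⟩ := P.ncard_cls_two_pow hx ha
  have h2 := (P.even_cls hx ha).1
  have h4 := P.le_four hx ha
  rw [hi] at h2 h4 ⊢
  have : i ≤ 2 := by
    by_contra! h
    have := Nat.pow_le_pow_right (show 0 < 2 by norm_num) h
    omega
  interval_cases i <;> simp at h2 ⊢

/-- Five members of a line have a product commuting with all members. -/
theorem prod_five (P : Geo S) {x a : G} (hx : x ∈ S) (ha : a ∈ perp S x) (h4 : (cls S x a).ncard = 4)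
    {p q u v r : G} (hd : [p, q, u, v, r].Nodup) (hmem : ∀ t ∈ [p, q, u, v, r], t ∈ line S x a) {z : G}
    (hz : z ∈ S) : Commute (p * q * u * v * r) z := by
  classical
  have hL := isLine_line hx ha
  set l := [p, q, u, v, r] with hldef
  have hP : p * q * u * v * r = l.prod := by simp [hldef, mul_assoc]
  rw [hP]
  rcases P.one_or_all hL hz with ⟨s, ⟨hs, hzs⟩, huniq⟩ | hall
  swap
  · exact Commute.list_prod_left l z fun t ht => (hall t (hmem t ht)).symm
  have hsub : ((l.toFinset : Finset G) : Set G) = line S x a := by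
    refine Set.eq_of_subset_of_ncard_le (fun t ht => hmem t (List.mem_toFinset.1 ht)) ?_ (Set.toFinite _)
    rw [Set.ncard_coe_finset, List.toFinset_card_of_nodup hd, P.ncard_line hL hx ha, h4]; rfl
  have hsl : s ∈ l := List.mem_toFinset.1 (show s ∈ (l.toFinset : Set G) from hsub.symm ▸ hs)
  obtain ⟨l', hl⟩ : ∃ l', List.Perm l (s :: l') := ⟨_, List.perm_cons_erase hsl⟩
  have hl4 : l'.length = 4 := by have := hl.length_eq; simpa [hldef] using this.symm
  match l', hl4 with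
  | [b₁, b₂, b₃, b₄], _ =>
    have hnd := hl.nodup_iff.1 hd
    simp only [List.nodup_cons, List.mem_cons, List.not_mem_nil, or_false, not_or] at hnd
    obtain ⟨⟨hs1, hs2, hs3, hs4⟩, ⟨h12, h13, h14⟩, ⟨h23, h24⟩, h34, -, -⟩ := hnd
    have hm : ∀ t ∈ [s, b₁, b₂, b₃, b₄], t ∈ line S x a := fun t ht => hmem t (hl.mem_iff.2 ht)
    have hn : ∀ t ∈ [s, b₁, b₂, b₃, b₄], t ≠ s → ¬ Commute z t := fun t ht hne h => hne (huniq t ⟨hm t ht, h⟩)
    obtain ⟨hw, hwa, hwb, hwe, hzw, hcomm⟩ := P.four'_line hL (hm b₁ (by simp)) (hm b₂ (by simp))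
      (hm b₃ (by simp)) h12 h13 h23 hz (hn b₁ (by simp) (Ne.symm hs1)) (hn b₂ (by simp) (Ne.symm hs2))
      (hn b₃ (by simp) (Ne.symm hs3))
    have hwf : four' b₁ b₂ b₃ z = b₄ := by
      have h' := hl.mem_iff.1 (List.mem_toFinset.1 (show four' b₁ b₂ b₃ z ∈ (l.toFinset : Set G) from hsub.symm ▸ hw))
      simp only [List.mem_cons, List.not_mem_nil, or_false, hwa, hwb, hwe, false_or] at h'
      exact h'.resolve_left fun h => hzw (h ▸ hzs)
    rw [hwf] at hcomm
    have hpw : l.Pairwise Commute :=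
      List.pairwise_of_forall_mem_list fun a ha' b hb => P.line_comm hL (hmem a ha') (hmem b hb)
    rw [hl.prod_eq' hpw]
    simp only [List.prod_cons, List.prod_nil, mul_one]
    rw [show b₁ * (b₂ * (b₃ * b₄)) = b₁ * b₂ * b₃ * b₄ by simp only [mul_assoc]]
    exact hzs.symm.mul_left hcomm

end Geo

end Cfsg.Lib.ThreeTr.TwoCorePerp
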