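import Cfsg.Agent.ThreeTransposition.TwoCorePerp.Inter

/-!
With lines of three members, a member commuting with neither of two noncommuting members commutes with their
third one: the commuting relation is a symplectic form.
-/

set_option linter.unusedSectionVars false
set_option linter.style.haveILetI false

namespace Cfsg.Lib.ThreeTr.TwoCorePerp

open Cfsg Subgroup Cfsg.Lib.ThreeTr
open Cfsg.Lib.ThreeTr.SolvablePerp (cls perp_symm self_mem_cls)

universe u

variable {G : Type u} [Group G] [Finite G] {S : Set G}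

/-- The lines have three members. -/
structure Three (S : Set G) : Prop extends Geo S where
  wid : ∀ x ∈ S, ∀ a ∈ perp S x, (cls S x a).ncard = 2

namespace Three

theorem exists_third (P : Three S) {x a : G} (hx : x ∈ S) (ha : a ∈ perp S x) :
    ∃ b, b ≠ a ∧ b ∈ cls S x a ∧ ∀ w ∈ cls S x a, w = a ∨ w = b := by
  obtain ⟨p, q, hpq, heq⟩ := Set.ncard_eq_two.1 (P.wid x hx a ha)
  have := self_mem_cls ha
  rw [heq] at this
  rcases this with rfl | rfl
  · exact ⟨q, hpq.symm, by rw [heq]; simp, fun w hw => by rwa [heq] at hw⟩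
  · exact ⟨p, hpq, by rw [heq]; simp, fun w hw => by rw [heq] at hw; exact hw.symm⟩

/-- A member commuting with neither of two members of a line commutes with the third. -/
theorem commute_third (P : Three S) {x a b y : G} (hx : x ∈ S) (ha : a ∈ perp S x) (hy : y ∈ S) (hne : b ≠ a)
    (hb : b ∈ cls S x a) (hyx : ¬ Commute y x) (hya : ¬ Commute y a) : Commute y b := by
  obtain ⟨u, hu, hc⟩ := P.exists_commute (isLine_line hx ha) hy
  obtain ⟨b', -, -, hall⟩ := P.exists_third hx ha
  rcases hu with rfl | hu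
  · exact absurd hc hyx
  rcases hall u hu with rfl | rfl
  · exact absurd hc hya
  · rcases hall b hb with rfl | rfl
    exacts [absurd rfl hne, hc]

theorem not_commute_third (P : Three S) {x a b y : G} (hx : x ∈ S) (ha : a ∈ perp S x) (hy : y ∈ S)
    (hne : b ≠ a) (hb : b ∈ cls S x a) (hyx : Commute y x) (hya : ¬ Commute y a) : ¬ Commute y b := fun h =>
  hya (P.two_all (isLine_line hx ha) hy mem_line_left (Or.inr hb) (fun e => hb.1.2.1 e) hyx h a
    (mem_line_right ha))

theorem conj_third (P : Three S) {x d e d' e' : G} (hx : x ∈ S) (hd : d ∈ perp S x) (he : e ∈ perp S x)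
    (hde : ¬ Commute d e) (hd' : d' ∈ cls S x d) (hdne : d' ≠ d) (he' : e' ∈ cls S x e) (hene : e' ≠ e) :
    d' * e' * d' = d * e * d ∧ d' * e * d' ≠ d * e * d ∧ d' * e * d' ∈ cls S x (d * e * d) := by
  have hi := inv_eq P.tr hd.1
  have hi' := inv_eq P.tr hd'.1.1
  have hd2 := sq_eq_one P.tr hd.1
  have hd'2 := sq_eq_one P.tr hd'.1.1
  have fix : ∀ {g : G}, g ∈ perp S x → ∀ {w : G}, w ∈ perp S x → g * w * g ∈ perp S x := fun {g} hg {w} hw => by
    have := (P.mem_perp_conj (subset_closure hg.1) (x := x) (y := w)).2 hw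
    rwa [CoreThree.conj_fix hg.2.2.symm, inv_eq P.tr hg.1] at this
  have hf := fix hd he
  have hA : d' * e * d' ∈ cls S x (d * e * d) := by
    have h := P.fix_cls hx hd'.1 (mem_cls_symm hd' hd) hf
    rwa [show d' * d * (d * e * d) * (d' * d)⁻¹ = d' * e * d' by
      rw [mul_inv_rev, hi, hi']
      calc d' * d * (d * e * d) * (d * d') = d' * (d * d) * e * (d * d) * d' := by simp only [mul_assoc]
        _ = _ := by rw [hd2, mul_one, mul_one]] at h
  have hAne : d' * e * d' ≠ d * e * d := by
    intro h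
    have hc : Commute e (d * d') := by
      show e * (d * d') = d * d' * e
      calc e * (d * d') = d * (d * e * d) * d' := by
            rw [show d * (d * e * d) * d' = (d * d) * e * (d * d') by simp only [mul_assoc], hd2, one_mul]
        _ = d * (d' * e * d') * d' := by rw [h]
        _ = d * d' * e * (d' * d') := by simp only [mul_assoc]
        _ = d * d' * e := by rw [hd'2, mul_one]
    exact hde ((commute_pair_iff P.tr hd.1 hd'.1.1 he.1 hdne.symm ((hd'.2 d' hd'.1).2 (Commute.refl _))).1 hc).1.symm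
  refine ⟨?_, hAne, hA⟩
  have hB : d' * e' * d' ∈ cls S x (d * e * d) := by
    have : d' * e' * d' ∈ cls S (d' * x * d'⁻¹) (d' * e * d'⁻¹) := by
      rw [← P.cls_image (subset_closure hd'.1.1)]
      exact ⟨e', he', by rw [hi']⟩
    rw [CoreThree.conj_fix hd'.1.2.2.symm, hi', cls_eq_cls hA] at this
    exact this
  obtain ⟨t, -, -, hall⟩ := P.exists_third hx hf
  rcases hall _ hB with h | h
  · exact h
  rcases hall _ hA with h' | h'
  · exact absurd h' hAne
  exact absurd (mul_left_cancel (mul_right_cancel (h.trans h'.symm))) hene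

/-- The main case: some common neighbour of `d`, `e` commutes with neither. -/
theorem parity_aux (P : Three S) {x d e y : G} (hx : x ∈ S) (hy : y ∈ S) (hd : d ∈ perp S x) (he : e ∈ perp S x)
    (hde : ¬ Commute d e) (hyx : ¬ Commute y x) (hyd : ¬ Commute y d) (hye : ¬ Commute y e) :
    Commute y (d * e * d) := by
  obtain ⟨d', hdne, hd', -⟩ := P.exists_third hx hd
  obtain ⟨e', hene, he', -⟩ := P.exists_third hx he
  rw [← (P.conj_third hx hd he hde hd' hdne he' hene).1]
  have h1 := P.commute_third hx hd hy hdne hd' hyx hyd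
  have h2 := P.commute_third hx he hy hene he' hyx hye
  exact (h1.mul_right h2).mul_right h1

/-- The parity of a triangle. -/
theorem parity (P : Three S) {d e y : G} (hd : d ∈ S) (he : e ∈ S) (hy : y ∈ S) (hde : ¬ Commute d e)
    (hyd : ¬ Commute y d) (hye : ¬ Commute y e) : Commute y (d * e * d) := by
  by_cases hex : ∃ x ∈ perp S d ∩ perp S e, ¬ Commute y x
  · obtain ⟨x, ⟨hxd, hxe⟩, hyx⟩ := hex
    exact P.parity_aux hxd.1 hy (perp_symm hd hxd) (perp_symm he hxe) hde hyx hyd hye
  push Not at hex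
  have hed : ¬ Commute e d := fun h => hde h.symm
  obtain ⟨t, ht⟩ := P.exists_inter hd he hde
  obtain ⟨s, hs, hts⟩ := P.exists_noncommute_inter hd he hde ht
  have htd := perp_symm hd ht.1
  have hyt := hex t ht
  obtain ⟨d', hdne, hd', -⟩ := P.exists_third ht.1.1 htd
  have hyd' := P.not_commute_third ht.1.1 htd hy hdne hd' hyt hyd
  have hed' := P.not_commute_third ht.1.1 htd he hdne hd' ht.2.2.2 hed
  have hTey : perp S d ∩ perp S e ⊆ perp S e ∩ perp S y := fun w hw =>
    ⟨hw.2, hw.1.1, fun h => hyd (h ▸ hw.1.2.2.symm), hex w hw⟩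
  have heq : perp S d ∩ perp S e = perp S e ∩ perp S y := Set.eq_of_subset_of_ncard_le hTey
    (le_of_eq (P.ncard_inter he hy (fun h => hye h.symm) hd he hde)) (Set.toFinite _)
  obtain ⟨x, ⟨hxd', hxe⟩, hxy⟩ : ∃ x ∈ perp S d' ∩ perp S e, ¬ Commute y x := by
    by_contra hcon
    push Not at hcon
    have hsub : perp S d' ∩ perp S e ⊆ perp S d ∩ perp S e := fun w hw => by
      rw [heq]
      exact ⟨hw.2, hw.1.1, fun h => hyd' (h ▸ hw.1.2.2.symm), hcon w hw⟩
    have heq' := Set.eq_of_subset_of_ncard_le hsub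
      (le_of_eq (P.ncard_inter hd he hde hd'.1.1 he (fun h => hed' h.symm))) (Set.toFinite _)
    rw [← heq'] at hs
    have hsd := (heq' ▸ hs : s ∈ perp S d ∩ perp S e).1
    exact hts (P.two_all (isLine_line ht.1.1 htd) hs.2.1 (Or.inr (self_mem_cls htd)) (Or.inr hd') hdne
      hsd.2.2.symm hs.1.2.2.symm t mem_line_left).symm
  have h1 := P.parity_aux hxd'.1 hy (perp_symm hd'.1.1 hxd') (perp_symm he hxe) (fun h => hed' h.symm) hxy hyd' hye
  have hte : e ∈ perp S t := perp_symm he ht.2
  obtain ⟨e', hene, he', -⟩ := P.exists_third ht.1.1 hte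
  obtain ⟨-, hne2, hmem⟩ := P.conj_third ht.1.1 htd hte hde hd' hdne he' hene
  have hL := isLine_line ht.1.1 hmem.1
  refine P.two_all hL hy mem_line_left (mem_line_right hmem.1) hmem.1.2.1 hyt h1 _ (Or.inr (mem_cls_symm hmem ?_))
  have := (P.mem_perp_conj (subset_closure hd) (x := t) (y := e)).2 hte
  rwa [CoreThree.conj_fix htd.2.2.symm, inv_eq P.tr hd] at this

end Three

end Cfsg.Lib.ThreeTr.TwoCorePerp
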