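import Cfsg.Agent.ThreeTransposition.TwoCorePerp.Parity
import Cfsg.Agent.SpTwo.Transpositions
import Cfsg.Agent.Classical.Symp.Decomp

/-!
The symplectic groups over two elements: the commuting relation spans a symplectic space on which the
members are the transvections.
-/

set_option linter.unusedSectionVars false
set_option linter.style.haveILetI false

namespace Cfsg.Lib.ThreeTr.TwoCorePerp

open Cfsg Subgroup Cfsg.Lib.ThreeTr Matrix
open Cfsg.Lib.ThreeTr.SolvablePerp (cls perp_symm self_mem_cls)

universe u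

variable {G : Type u} [Group G] {S : Set G}

open _root_.Classical in
/-- The indicator of not commuting with `d`. -/
noncomputable def ind (S : Set G) (d : G) : ↥S → ZMod 2 := fun e => if Commute d e.1 then 0 else 1

theorem ind_self {d : G} (h : d ∈ S) : ind S d ⟨d, h⟩ = 0 := by simp [ind]

theorem ind_eq_zero {d : G} {e : ↥S} : ind S d e = 0 ↔ Commute d e.1 := by
  by_cases h : Commute d e.1 <;> simp [ind, h]

theorem ind_swap (d e : ↥S) : ind S d.1 e = ind S e.1 d := by
  by_cases h : Commute d.1 e.1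
  · rw [ind_eq_zero.2 h, ind_eq_zero.2 h.symm]
  · have h' : ¬ Commute e.1 d.1 := fun c => h c.symm
    simp [ind, h, h']

namespace Three

variable [Finite G]

theorem ind_add_of_commute (P : Three S) {x a b : G} (hx : x ∈ S) (ha : a ∈ perp S x) (hb : b ∈ cls S x a)
    (hne : b ≠ a) : ind S x + ind S a = ind S b := by
  funext e
  have hL := isLine_line hx ha
  by_cases h1 : Commute x e.1 <;> by_cases h2 : Commute a e.1
  · have := P.two_all hL e.2 mem_line_left (mem_line_right ha) ha.2.1 h1.symm h2.symm b (Or.inr hb)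
    simp [ind, h1, h2, this.symm]
  · have := P.not_commute_third hx ha e.2 hne hb h1.symm fun c => h2 c.symm
    have h3 : ¬ Commute b e.1 := fun c => this c.symm
    simp [ind, h1, h2, h3]
  · have h3 : ¬ Commute b e.1 := fun c => h1 (P.two_all hL e.2 (mem_line_right ha) (Or.inr hb) hne h2.symm c.symm
      x mem_line_left).symm
    simp [ind, h1, h2, h3]
  · have := P.commute_third hx ha e.2 hne hb (fun c => h1 c.symm) fun c => h2 c.symm
    simp [ind, h1, h2, this.symm]
    decide

theorem ind_add_of_not_commute (P : Three S) {d e : G} (hd : d ∈ S) (he : e ∈ S) (h : ¬ Commute d e) :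
    ind S d + ind S e = ind S (d * e * d) := by
  funext y
  have hd2 := sq_eq_one P.tr hd
  have he2 := sq_eq_one P.tr he
  have hf : d * e * d = e * d * e := braid P.tr hd he h
  by_cases h1 : Commute d y.1 <;> by_cases h2 : Commute e y.1
  · have : Commute (d * e * d) y.1 := (h1.mul_left h2).mul_left h1
    simp [ind, h1, h2, this]
  · have h3 : ¬ Commute (d * e * d) y.1 := fun c => h2 (by
      have := (h1.mul_left c).mul_left h1
      rwa [invol_conj_conj hd2] at this)
    simp [ind, h1, h2, h3]
  · have h3 : ¬ Commute (d * e * d) y.1 := fun c => h1 (by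
      rw [hf] at c
      have := (h2.mul_left c).mul_left h2
      rwa [invol_conj_conj he2] at this)
    simp [ind, h1, h2, h3]
  · have := P.parity hd he y.2 h (fun c => h1 c.symm) fun c => h2 c.symm
    simp [ind, h1, h2, this.symm]
    decide

theorem exists_not_commute (P : Three S) {d : G} (hd : d ∈ S) : ∃ e ∈ S, ¬ Commute d e := by
  obtain ⟨a, ha⟩ := P.exists_perp hd
  obtain ⟨z, hz, -, hne⟩ := P.exists_sep hd ha
  exact ⟨z, hz, hne⟩

theorem ind_ne_zero (P : Three S) {d : G} (hd : d ∈ S) : ind S d ≠ 0 := by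
  obtain ⟨e, he, hne⟩ := P.exists_not_commute hd
  exact fun h => hne (ind_eq_zero.1 (congrFun h ⟨e, he⟩))

theorem ind_inj (P : Three S) {d e : G} (hd : d ∈ S) (he : e ∈ S) (h : ind S d = ind S e) : d = e :=
  P.twinfree d hd e he fun w hw => by rw [← ind_eq_zero (e := ⟨w, hw⟩), h, ind_eq_zero]

/-- The span of the indicators is their set with zero. -/
noncomputable def space (P : Three S) : Submodule (ZMod 2) (↥S → ZMod 2) where
  carrier := insert 0 (ind S '' S)
  zero_mem' := Set.mem_insert _ _
  smul_mem' c v hv := by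
    obtain rfl | rfl : c = 0 ∨ c = 1 := by revert c; decide
    · simp
    · simpa using hv
  add_mem' {v w} hv hw := by
    rcases hv with rfl | ⟨d, hd, rfl⟩
    · simpa using hw
    rcases hw with rfl | ⟨e, he, rfl⟩
    · exact Or.inr ⟨d, hd, by simp⟩
    by_cases h : Commute d e
    · by_cases hde : e = d
      · subst hde; exact Or.inl (funext fun _ => CharTwo.add_self_eq_zero _)
      obtain ⟨b, hne, hb, -⟩ := P.exists_third hd (show e ∈ perp S d from ⟨he, hde, h⟩)
      exact Or.inr ⟨b, hb.1.1, (P.ind_add_of_commute hd ⟨he, hde, h⟩ hb hne).symm⟩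
    · exact Or.inr ⟨_, P.invol_mem hd he, (P.ind_add_of_not_commute hd he h).symm⟩

theorem mem_space (P : Three S) {d : G} (hd : d ∈ S) : ind S d ∈ P.space := Or.inr ⟨d, hd, rfl⟩

theorem exists_rep (P : Three S) {v : P.space} (hv : v ≠ 0) : ∃ d, ∃ hd : d ∈ S, v = ⟨ind S d, P.mem_space hd⟩ := by
  rcases v.2 with h | ⟨d, hd, h⟩
  · exact absurd (Subtype.ext h) hv
  · exact ⟨d, hd, Subtype.ext h.symm⟩

open _root_.Classical in
/-- The value at a vector. -/
noncomputable def pairing (P : Three S) (v w : P.space) : ZMod 2 :=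
  if h : w = 0 then 0 else v.1 ⟨(P.exists_rep h).choose, (P.exists_rep h).choose_spec.choose⟩

theorem pairing_ind (P : Three S) (v : P.space) {d : G} (hd : d ∈ S) :
    P.pairing v ⟨ind S d, P.mem_space hd⟩ = v.1 ⟨d, hd⟩ := by
  have h0 : (⟨ind S d, P.mem_space hd⟩ : P.space) ≠ 0 := fun h => P.ind_ne_zero hd (congrArg Subtype.val h)
  rw [pairing, dif_neg h0]
  have key : (P.exists_rep h0).choose = d := P.ind_inj (P.exists_rep h0).choose_spec.choose hd
    (congrArg Subtype.val (P.exists_rep h0).choose_spec.choose_spec).symm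
  exact congrArg v.1 (Subtype.ext key)

theorem pairing_comm (P : Three S) (v w : P.space) : P.pairing v w = P.pairing w v := by
  by_cases hv : v = 0
  · subst hv; simp [pairing]
  by_cases hw : w = 0
  · subst hw; simp [pairing]
  obtain ⟨d, hd, rfl⟩ := P.exists_rep hv
  obtain ⟨e, he, rfl⟩ := P.exists_rep hw
  rw [P.pairing_ind _ he, P.pairing_ind _ hd]
  exact ind_swap ⟨d, hd⟩ ⟨e, he⟩

theorem pairing_add_left (P : Three S) (v v' w : P.space) :
    P.pairing (v + v') w = P.pairing v w + P.pairing v' w := by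
  by_cases hw : w = 0
  · subst hw; simp [pairing]
  obtain ⟨e, he, rfl⟩ := P.exists_rep hw
  simp only [P.pairing_ind _ he]
  rfl

theorem pairing_smul_left (P : Three S) (c : ZMod 2) (v w : P.space) :
    P.pairing (c • v) w = c * P.pairing v w := by
  obtain rfl | rfl : c = 0 ∨ c = 1 := by revert c; decide
  · by_cases hw : w = 0
    · subst hw; simp [pairing]
    · obtain ⟨e, he, rfl⟩ := P.exists_rep hw
      simp [P.pairing_ind _ he]
  · simp

/-- The symplectic form. -/
noncomputable def form (P : Three S) : LinearMap.BilinForm (ZMod 2) P.space :=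
  LinearMap.mk₂ (ZMod 2) P.pairing P.pairing_add_left P.pairing_smul_left
    (fun v w w' => by rw [P.pairing_comm, P.pairing_add_left, P.pairing_comm w, P.pairing_comm w'])
    fun c v w => by rw [P.pairing_comm, P.pairing_smul_left, P.pairing_comm w]; rfl

theorem form_isAlt (P : Three S) : P.form.IsAlt := fun v => by
  show P.pairing v v = 0
  by_cases hv : v = 0
  · subst hv; simp [pairing]
  obtain ⟨d, hd, rfl⟩ := P.exists_rep hv
  rw [P.pairing_ind _ hd]
  exact ind_self hd

theorem form_nondeg (P : Three S) : P.form.Nondegenerate := by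
  have h : ∀ v : P.space, (∀ w, P.pairing v w = 0) → v = 0 := fun v h => Subtype.ext (funext fun e => by
    have := h ⟨ind S e.1, P.mem_space e.2⟩
    rw [P.pairing_ind _ e.2] at this
    simpa using this)
  exact ⟨fun v hv => h v hv, fun v hv => h v fun w => (P.pairing_comm v w).trans (hv w)⟩

theorem mem_conj (P : Three S) (htop : closure S = ⊤) (g : G) {d : G} (hd : d ∈ S) : g * d * g⁻¹ ∈ S :=
  (P.mem_iff (htop ▸ mem_top g) d).2 hd

theorem mem_conj' (P : Three S) (htop : closure S = ⊤) (g : G) (e : ↥S) : g⁻¹ * e.1 * g ∈ S := by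
  simpa using P.mem_conj htop g⁻¹ e.2

theorem ind_conj (P : Three S) (htop : closure S = ⊤) (g d : G) :
    (fun e => ind S d ⟨_, P.mem_conj' htop g e⟩) = ind S (g * d * g⁻¹) := by
  funext e
  have : Commute d (g⁻¹ * e.1 * g) ↔ Commute (g * d * g⁻¹) e.1 := by
    rw [← conj_commute_iff g d (g⁻¹ * e.1 * g), show g * (g⁻¹ * e.1 * g) * g⁻¹ = e.1 by group]
  by_cases h : Commute d (g⁻¹ * e.1 * g) <;> simp [ind, h, ← this]

theorem act_mem (P : Three S) (htop : closure S = ⊤) (g : G) (v : P.space) :
    (fun e => v.1 ⟨_, P.mem_conj' htop g e⟩) ∈ P.space := by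
  by_cases hv : v = 0
  · subst hv; exact P.space.zero_mem
  obtain ⟨d, hd, rfl⟩ := P.exists_rep hv
  rw [P.ind_conj htop g d]
  exact P.mem_space (P.mem_conj htop g hd)

/-- The action on the space. -/
noncomputable def rep (P : Three S) (htop : closure S = ⊤) : G →* Module.End (ZMod 2) P.space where
  toFun g :=
    { toFun := fun v => ⟨_, P.act_mem htop g v⟩
      map_add' := fun v w => rfl
      map_smul' := fun c v => rfl }
  map_one' := LinearMap.ext fun v => Subtype.ext (funext fun e => congrArg v.1 (Subtype.ext (by simp)))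
  map_mul' g k := LinearMap.ext fun v => Subtype.ext (funext fun e => congrArg v.1 (Subtype.ext (by group)))

theorem rep_ind (P : Three S) (htop : closure S = ⊤) (g : G) {d : G} (hd : d ∈ S) :
    P.rep htop g ⟨ind S d, P.mem_space hd⟩ = ⟨ind S (g * d * g⁻¹), P.mem_space (P.mem_conj htop g hd)⟩ :=
  Subtype.ext (P.ind_conj htop g d)

theorem rep_transv (P : Three S) (htop : closure S = ⊤) {d : G} (hd : d ∈ S) (v : P.space) :
    P.rep htop d v = v + P.form v ⟨ind S d, P.mem_space hd⟩ • (⟨ind S d, P.mem_space hd⟩ : P.space) := by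
  by_cases hv : v = 0
  · subst hv; simp
  obtain ⟨e, he, rfl⟩ := P.exists_rep hv
  rw [P.rep_ind htop d he]
  change _ = _ + P.pairing _ _ • _
  rw [P.pairing_ind _ hd]
  refine Subtype.ext ?_
  show ind S (d * e * d⁻¹) = ind S e + ind S e ⟨d, hd⟩ • ind S d
  rw [inv_eq P.tr hd]
  by_cases h : Commute e d
  · rw [ind_eq_zero.2 h, zero_smul, add_zero, h.symm.eq, mul_assoc, sq_eq_one P.tr hd, mul_one]
  · rw [show ind S e ⟨d, hd⟩ = 1 by simp [ind, h], one_smul, add_comm,
      ← P.ind_add_of_not_commute hd he fun c => h c.symm]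

/-- The groups generated by such a set with nothing centralising it are symplectic groups. -/
theorem equiv_sp (P : Three S) (htop : closure S = ⊤) (hcent : ∀ g : G, (∀ d ∈ S, Commute g d) → g = 1) :
    ∃ n : ℕ, Nonempty (G ≃* ↥(Matrix.symplecticGroup (Fin n) (ZMod 2))) := by
  classical
  have hA := P.form_isAlt
  obtain ⟨m, b, hdim, h1, h2, h3⟩ :=
    Cfsg.Lib.Classical.exists_symplectic_basis_nondegenerate hA P.form_nondeg
  have hG : LinearMap.toMatrix₂ b b P.form = -Matrix.J (Fin m) (ZMod 2) := by
    ext i j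
    rw [LinearMap.toMatrix₂_apply]
    rcases i with i | i <;> rcases j with j | j
    · simpa [Matrix.J] using h2 i j
    · simp [Matrix.J, h1, Matrix.one_apply]
    · rw [← hA.neg_eq, h1]; simp [Matrix.J, Matrix.one_apply, eq_comm]
    · simpa [Matrix.J] using h3 i j
  set ρ := P.rep htop with hρ
  let f : G →* Matrix (Fin m ⊕ Fin m) (Fin m ⊕ Fin m) (ZMod 2) :=
    (LinearMap.toMatrixAlgEquiv b).toMonoidHom.comp ρ
  have hfix : ∀ a x y, P.form (ρ a x) (ρ a y) = P.form x y := by
    intro a x y
    change P.pairing (ρ a x) (ρ a y) = P.pairing x y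
    by_cases hy : y = 0
    · subst hy; simp [pairing]
    obtain ⟨e, he, rfl⟩ := P.exists_rep hy
    rw [P.rep_ind htop a he, P.pairing_ind _ (P.mem_conj htop a he), P.pairing_ind _ he]
    exact congrArg x.1 (Subtype.ext (by group))
  have hmem : ∀ a, f a ∈ Matrix.symplecticGroup (Fin m) (ZMod 2) := by
    intro a
    rw [SymplecticGroup.mem_iff']
    have e : P.form.compl₁₂ (ρ a) (ρ a) = P.form := LinearMap.ext₂ fun x y => hfix a x y
    have := congrArg (LinearMap.toMatrix₂ b b) e
    rw [LinearMap.toMatrix₂_compl₁₂ b b, hG] at this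
    change (f a).transpose * -Matrix.J (Fin m) (ZMod 2) * f a = -Matrix.J (Fin m) (ZMod 2) at this
    simpa using this
  set φ : G →* ↥(Matrix.symplecticGroup (Fin m) (ZMod 2)) := MonoidHom.codRestrict f _ hmem with hφ
  have hinj : Function.Injective φ := by
    rw [injective_iff_map_eq_one]
    intro g hg
    have hρ1 : ρ g = 1 := (LinearMap.toMatrixAlgEquiv b).injective (by
      rw [map_one]; exact congrArg Subtype.val hg)
    refine hcent g fun d hd => ?_
    have h' := P.rep_ind htop g hd
    rw [← hρ, hρ1] at h'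
    exact (mul_inv_eq_iff_eq_mul.1 (P.ind_inj (P.mem_conj htop g hd) hd (congrArg Subtype.val h').symm))
  have hm : 1 ≤ m := by
    obtain ⟨x, hx, -⟩ := P.twin
    rcases Nat.eq_zero_or_pos m with rfl | h
    · haveI : Subsingleton P.space := Module.finrank_zero_iff.1 (by omega : Module.finrank (ZMod 2) P.space = 0)
      exact absurd (congrArg Subtype.val (Subsingleton.elim (⟨ind S x, P.mem_space hx⟩ : P.space) 0))
        (P.ind_ne_zero hx)
    · exact h
  have hsurj : Function.Surjective φ := by
    rw [← MonoidHom.range_eq_top, eq_top_iff, ← (Cfsg.Lib.SpTwo.three_transposition (n := m) hm).2.2,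
      closure_le]
    intro g hg
    obtain ⟨v, hv, rfl⟩ := (Cfsg.Lib.SpTwo.rank_iff g).1 hg
    obtain ⟨d, hd, hdv⟩ := P.exists_rep (v := b.equivFun.symm v) fun h => hv
      (b.equivFun.symm.map_eq_zero_iff.1 h)
    refine ⟨d, Cfsg.Lib.RootSub.spCoe_injective m ?_⟩
    refine Matrix.ext_of_mulVec_single fun i => ?_
    rw [Cfsg.Lib.SpTwo.tv_apply]
    show f d *ᵥ Pi.single i 1 = _
    have hi : Pi.single i (1 : ZMod 2) = b.equivFun (b i) := by
      funext j
      rw [Module.Basis.equivFun_self]
      simp [Pi.single_apply, eq_comm]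
    have hfv : ∀ w : P.space, f d *ᵥ b.equivFun w = b.equivFun (ρ d w) := fun w => by
      simp only [Module.Basis.equivFun_apply, f]
      exact LinearMap.toMatrix_mulVec_repr b b _ _
    rw [hi, hfv, P.rep_transv htop hd, ← hdv, map_add, map_smul, LinearEquiv.apply_symm_apply]
    congr 2
    have key : P.form (b i) (b.equivFun.symm v) =
        b.equivFun (b i) ⬝ᵥ (LinearMap.toMatrix₂ b b P.form *ᵥ b.equivFun (b.equivFun.symm v)) := by
      simp only [Module.Basis.equivFun_apply]
      exact (apply_eq_dotProduct_toMatrix₂_mulVec b b P.form _ _)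
    rw [key, hG, LinearEquiv.apply_symm_apply, Matrix.neg_mulVec, dotProduct_neg, CharTwo.neg_eq, dotProduct_comm]
  exact ⟨m, ⟨MulEquiv.ofBijective φ ⟨hinj, hsurj⟩⟩⟩

end Three

end Cfsg.Lib.ThreeTr.TwoCorePerp
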